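import Mathlib
import Cfsg.Prelude.Def_LinearParabolics
import Cfsg.Agent.Lib.GL.Basic

/-!
Block labels of compositions and the order of the standard parabolic subgroups of `GL_n`.
-/

set_option autoImplicit false

open Finset Matrix

namespace Cfsg.Agent.FlagChar

variable {n : ℕ}

/-- Prefix sum up to and including `a`. -/
def pref (μ : Fin n → ℕ) (a : Fin n) : ℕ := ∑ k ∈ univ.filter (fun k : Fin n => k ≤ a), μ k

theorem pref_mono (μ : Fin n → ℕ) : Monotone (pref μ) := fun a b hab =>
  sum_le_sum_of_subset fun k hk => by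
    simp only [mem_filter, mem_univ, true_and] at hk ⊢
    exact hk.trans hab

theorem pref_le (μ : Fin n → ℕ) (hμ : ∑ i, μ i = n) (a : Fin n) : pref μ a ≤ n := by
  calc pref μ a ≤ ∑ i, μ i := sum_le_sum_of_subset (subset_univ _)
    _ = n := hμ

theorem compLabel_le_iff (μ : Fin n → ℕ) (i a : Fin n) : compLabel μ i ≤ a.val ↔ i.val < pref μ a := by
  constructor
  · intro h
    by_contra H
    push Not at H
    have hsub : univ.filter (fun j : Fin n => j ≤ a) ⊆ univ.filter fun j : Fin n => pref μ j ≤ i.val := by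
      intro j hj
      simp only [mem_filter, mem_univ, true_and] at hj ⊢
      exact (pref_mono μ hj).trans H
    have := card_le_card hsub
    rw [show (univ.filter (fun j : Fin n => j ≤ a)) = Iic a by ext; simp, Fin.card_Iic] at this
    have e : compLabel μ i = (univ.filter fun j : Fin n => pref μ j ≤ i.val).card := rfl
    omega
  · intro h
    have hsub : (univ.filter fun j : Fin n => pref μ j ≤ i.val) ⊆ Iio a := by
      intro j hj
      simp only [mem_filter, mem_univ, true_and, mem_Iio] at hj ⊢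
      by_contra hja
      push Not at hja
      have := pref_mono μ hja
      omega
    exact (card_le_card hsub).trans (by rw [Fin.card_Iio])

theorem monotone_compLabel (μ : Fin n → ℕ) : Monotone (compLabel μ) := fun i j hij =>
  card_le_card fun k hk => by
    simp only [mem_filter, mem_univ, true_and] at hk ⊢
    exact hk.trans hij

theorem compLabel_lt (μ : Fin n → ℕ) (hμ : ∑ i, μ i = n) (i : Fin n) : compLabel μ i < n := by
  have hn : 0 < n := i.pos
  have h := (compLabel_le_iff μ i ⟨n - 1, by omega⟩).2 (by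
    have : pref μ ⟨n - 1, by omega⟩ = n := by
      refine Eq.trans ?_ hμ
      refine sum_congr ?_ fun _ _ => rfl
      ext k
      simp only [mem_filter, mem_univ, true_and, iff_true]
      exact Nat.le_sub_one_of_lt k.isLt
    rw [this]; exact i.isLt)
  simp at h
  omega

/-- The label with values in `Fin n`. -/
def finLabel (μ : Fin n → ℕ) (hμ : ∑ i, μ i = n) (i : Fin n) : Fin n := ⟨compLabel μ i, compLabel_lt μ hμ i⟩

theorem card_le_label (μ : Fin n → ℕ) (hμ : ∑ i, μ i = n) (a : Fin n) :
    (univ.filter fun i : Fin n => compLabel μ i ≤ a.val).card = pref μ a := by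
  simp_rw [compLabel_le_iff]
  rw [Fin.card_filter_val_lt]
  exact min_eq_right (pref_le μ hμ a)

theorem card_label_eq (μ : Fin n → ℕ) (hμ : ∑ i, μ i = n) (a : Fin n) :
    (univ.filter fun i : Fin n => compLabel μ i = a.val).card = μ a := by
  have hsplit : (univ.filter fun i : Fin n => compLabel μ i ≤ a.val).card =
      (univ.filter fun i : Fin n => compLabel μ i < a.val).card +
      (univ.filter fun i : Fin n => compLabel μ i = a.val).card := by
    rw [← card_union_of_disjoint (disjoint_filter.2 fun i _ h => h.ne)]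
    congr 1
    ext i
    simp [le_iff_lt_or_eq]
  have hpref : pref μ a = (∑ k ∈ univ.filter (fun k : Fin n => k < a), μ k) + μ a := by
    rw [pref, ← sum_singleton (fun k => μ k) a, ← sum_union (disjoint_singleton_right.2 (by simp))]
    congr 1
    ext k
    simp [le_iff_lt_or_eq, or_comm]
  have hlt : (univ.filter fun i : Fin n => compLabel μ i < a.val).card =
      ∑ k ∈ univ.filter (fun k : Fin n => k < a), μ k := by
    obtain ⟨a, ha⟩ := a
    rcases a with _ | b
    · rw [sum_eq_zero (fun k hk => by simp [Fin.lt_def] at hk)]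
      simp
    · have := card_le_label μ hμ ⟨b, by omega⟩
      simp only [Nat.lt_succ_iff]
      rw [this]
      refine sum_congr ?_ fun _ _ => rfl
      ext k
      simp [Fin.lt_def, Fin.le_def, Nat.lt_succ_iff]
  have := card_le_label μ hμ a
  omega

theorem card_finLabel_eq (μ : Fin n → ℕ) (hμ : ∑ i, μ i = n) (a : Fin n) :
    (univ.filter fun i : Fin n => finLabel μ hμ i = a).card = μ a := by
  rw [← card_label_eq μ hμ a]
  simp [finLabel, Fin.ext_iff]

section Order

variable {F : Type*} [Field F]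

theorem mem_parabolicGL_iff (μ : Fin n → ℕ) (hμ : ∑ i, μ i = n) (g : GL (Fin n) F) :
    g ∈ parabolicGL n F μ ↔ (g : Matrix (Fin n) (Fin n) F).BlockTriangular (finLabel μ hμ) := Iff.rfl

/-- The diagonal block with label `a`. -/
def blk (ℓ : Fin n → Fin n) (M : Matrix (Fin n) (Fin n) F) (a : Fin n) : Matrix {i // ℓ i = a} {i // ℓ i = a} F :=
  M.toSquareBlock ℓ a

theorem det_blk_ne_zero (ℓ : Fin n → Fin n) (g : GL (Fin n) F)
    (hg : (g : Matrix (Fin n) (Fin n) F).BlockTriangular ℓ) (a : Fin n) :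
    (blk ℓ (g : Matrix (Fin n) (Fin n) F) a).det ≠ 0 := by
  have hu : (g : Matrix (Fin n) (Fin n) F).det ≠ 0 :=
    ((Matrix.isUnit_iff_isUnit_det _).1 g.isUnit).ne_zero
  rw [hg.det_fintype] at hu
  exact Finset.prod_ne_zero_iff.1 hu a (mem_univ a)

/-- A parabolic element as a family of diagonal blocks and strictly upper entries. -/
noncomputable def parabolicEquiv (μ : Fin n → ℕ) (hμ : ∑ i, μ i = n) :
    parabolicGL n F μ ≃
      ((∀ a : Fin n, GL {i // finLabel μ hμ i = a} F) ×
        ({p : Fin n × Fin n // finLabel μ hμ p.1 < finLabel μ hμ p.2} → F)) :=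
  Equiv.ofBijective
    (fun g => (fun a => GeneralLinearGroup.mkOfDetNeZero _
        (det_blk_ne_zero (finLabel μ hμ) g.1 ((mem_parabolicGL_iff μ hμ _).1 g.2) a),
      fun p => g.1.val p.1.1 p.1.2))
    ⟨by
      intro g h e
      simp only [Prod.mk.injEq] at e
      obtain ⟨e1, e2⟩ := e
      apply Subtype.ext
      apply Units.ext
      ext i j
      rcases lt_trichotomy (finLabel μ hμ i) (finLabel μ hμ j) with hij | hij | hij
      · exact congrFun e2 ⟨(i, j), hij⟩
      · have := congrArg Units.val (congrFun e1 (finLabel μ hμ i))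
        exact congrFun₂ this ⟨i, rfl⟩ ⟨j, hij.symm⟩
      · exact ((mem_parabolicGL_iff μ hμ _).1 g.2 hij).trans ((mem_parabolicGL_iff μ hμ _).1 h.2 hij).symm,
    by
      intro x
      classical
      obtain ⟨B, hB⟩ : ∃ B : (a : Fin n) → Matrix {i // finLabel μ hμ i = a} {i // finLabel μ hμ i = a} F,
          ∀ a, B a = (x.1 a).val := ⟨_, fun _ => rfl⟩
      let M : Matrix (Fin n) (Fin n) F := Matrix.of fun i j =>
        if h : finLabel μ hμ i < finLabel μ hμ j then x.2 ⟨(i, j), h⟩
        else if h' : finLabel μ hμ j = finLabel μ hμ i then B (finLabel μ hμ i) ⟨i, rfl⟩ ⟨j, h'⟩ else 0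
      have hM : M.BlockTriangular (finLabel μ hμ) := fun i j hij => by
        simp [M, not_lt.2 hij.le, hij.ne]
      have hblk : ∀ a, blk (finLabel μ hμ) M a = B a := by
        intro a
        ext ⟨i, hi⟩ ⟨j, hj⟩
        subst hi
        show M i j = _
        simp only [Matrix.of_apply, M]
        rw [dif_neg (by rw [hj]; exact lt_irrefl _), dif_pos hj]
      have hdet : M.det ≠ 0 := by
        rw [hM.det_fintype]
        refine Finset.prod_ne_zero_iff.2 fun a _ => ?_
        show (blk (finLabel μ hμ) M a).det ≠ 0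
        rw [hblk, hB]
        exact ((Matrix.isUnit_iff_isUnit_det _).1 (x.1 a).isUnit).ne_zero
      refine ⟨⟨GeneralLinearGroup.mkOfDetNeZero M hdet, (mem_parabolicGL_iff μ hμ _).2 hM⟩, ?_⟩
      refine Prod.ext (funext fun a => Units.ext ?_) (funext fun p => ?_)
      · exact (hblk a).trans (hB a)
      · show M p.1.1 p.1.2 = _
        simp only [Matrix.of_apply, M]
        rw [dif_pos p.2]⟩

/-- Number of strictly upper block pairs. -/
theorem two_mul_card_pairs (μ : Fin n → ℕ) (hμ : ∑ i, μ i = n) :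
    2 * Nat.card {p : Fin n × Fin n // finLabel μ hμ p.1 < finLabel μ hμ p.2} + ∑ a, μ a ^ 2 = n ^ 2 := by
  classical
  set ℓ := finLabel μ hμ
  have h1 : (univ.filter fun p : Fin n × Fin n => ℓ p.1 < ℓ p.2).card +
      (univ.filter fun p : Fin n × Fin n => ℓ p.2 < ℓ p.1).card +
      (univ.filter fun p : Fin n × Fin n => ℓ p.1 = ℓ p.2).card = n ^ 2 := by
    rw [← card_union_of_disjoint (disjoint_filter.2 fun p _ h h' => lt_asymm h h'),
      ← card_union_of_disjoint]
    · rw [show (univ.filter fun p : Fin n × Fin n => ℓ p.1 < ℓ p.2) ∪ (univ.filter fun p => ℓ p.2 < ℓ p.1) ∪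
          (univ.filter fun p => ℓ p.1 = ℓ p.2) = univ by
            ext p; simp; rcases lt_trichotomy (ℓ p.1) (ℓ p.2) with h | h | h <;> simp [h]]
      simp [sq]
    · rw [disjoint_union_left]
      exact ⟨disjoint_filter.2 fun p _ h => h.ne, disjoint_filter.2 fun p _ h => h.ne'⟩
  have h2 : (univ.filter fun p : Fin n × Fin n => ℓ p.2 < ℓ p.1).card =
      (univ.filter fun p : Fin n × Fin n => ℓ p.1 < ℓ p.2).card :=
    card_equiv (Equiv.prodComm _ _) (by simp)
  have h3 : (univ.filter fun p : Fin n × Fin n => ℓ p.1 = ℓ p.2).card = ∑ a, μ a ^ 2 := by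
    rw [card_eq_sum_card_fiberwise (f := fun p : Fin n × Fin n => ℓ p.1) (t := univ) (fun _ _ => mem_univ _)]
    refine sum_congr rfl fun a _ => ?_
    rw [sq, ← card_finLabel_eq μ hμ a, ← card_product]
    congr 1
    ext ⟨i, j⟩
    simp only [mem_filter, mem_univ, true_and, mem_product, ℓ]
    constructor
    · rintro ⟨h, h'⟩; exact ⟨h', h ▸ h'⟩
    · rintro ⟨h, h'⟩; exact ⟨h.trans h'.symm, h⟩
  rw [Nat.card_eq_fintype_card, Fintype.card_subtype]
  omega

/-- Order of the standard parabolic subgroup. -/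
theorem card_parabolicGL [Fintype F] (μ : Fin n → ℕ) (hμ : ∑ i, μ i = n) :
    Nat.card (parabolicGL n F μ) = Fintype.card F ^ (n * (n - 1) / 2) *
      ∏ a, ∏ i ∈ Ico 1 (μ a + 1), (Fintype.card F ^ i - 1) := by
  classical
  have hblock : ∀ a, Nat.card (GL {i // finLabel μ hμ i = a} F) =
      Fintype.card F ^ (μ a * (μ a - 1) / 2) * ∏ i ∈ Ico 1 (μ a + 1), (Fintype.card F ^ i - 1) := by
    intro a
    rw [Cfsg.Agent.GL.card_GL (μ a) (by rw [Fintype.card_subtype]; exact card_finLabel_eq μ hμ a),
      Cfsg.Agent.GL.prod_pow_sub_pow]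
  rw [Nat.card_congr (parabolicEquiv μ hμ), Nat.card_prod, Nat.card_pi, Nat.card_fun,
    Finset.prod_congr rfl (fun a _ => hblock a), prod_mul_distrib, prod_pow_eq_pow_sum,
    Nat.card_eq_fintype_card (α := F), mul_right_comm, ← pow_add]
  congr 2
  have h := two_mul_card_pairs μ hμ
  have he : ∀ m : ℕ, m ^ 2 = 2 * (m * (m - 1) / 2) + m := by
    intro m
    rcases m with _ | m
    · rfl
    · have h2 : 2 ∣ (m + 1) * m := by rw [mul_comm]; exact Nat.two_dvd_mul_add_one m
      rw [Nat.add_sub_cancel, Nat.mul_div_cancel' h2]; ring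
  rw [he n, sum_congr rfl (fun a _ => he (μ a)), sum_add_distrib, ← mul_sum, hμ] at h
  omega

end Order

end Cfsg.Agent.FlagChar
namespace Cfsg.Agent.FlagChar

section Index

variable {n : ℕ} {F : Type*} [Field F] [Fintype F]

theorem prod_pow_sub_one (q m : ℕ) (hq : 1 ≤ q) :
    ∏ i ∈ Finset.Ico 1 (m + 1), (q ^ i - 1) = (q - 1) ^ m * ∏ j ∈ Finset.range m, ∑ l ∈ Finset.range (j + 1), q ^ l := by
  rw [Finset.prod_Ico_eq_prod_range, Nat.add_sub_cancel, ← Finset.card_range m, ← Finset.prod_const,
    Finset.card_range, ← Finset.prod_mul_distrib]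
  refine Finset.prod_congr rfl fun j _ => ?_
  obtain ⟨x, rfl⟩ : ∃ x, q = x + 1 := ⟨q - 1, by omega⟩
  rw [add_comm 1 j, Nat.add_sub_cancel, mul_comm, ← geom_sum_mul_add x (j + 1), Nat.add_sub_cancel]

/-- Index of the parabolic subgroup as a `q`-multinomial. -/
theorem index_mul (μ : Fin n → ℕ) (hμ : ∑ i, μ i = n) :
    Nat.card (GL (Fin n) F ⧸ parabolicGL n F μ) *
      ∏ a, ∏ j ∈ Finset.range (μ a), ∑ l ∈ Finset.range (j + 1), Fintype.card F ^ l =
      ∏ j ∈ Finset.range n, ∑ l ∈ Finset.range (j + 1), Fintype.card F ^ l := by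
  have h := Subgroup.card_eq_card_quotient_mul_card_subgroup (parabolicGL n F μ)
  have hq : 1 < Fintype.card F := Fintype.one_lt_card
  rw [card_parabolicGL μ hμ, Cfsg.Agent.GL.card_GL_prod, prod_pow_sub_one _ _ hq.le,
    Finset.prod_congr rfl (fun a _ => prod_pow_sub_one (Fintype.card F) (μ a) hq.le),
    Finset.prod_mul_distrib, Finset.prod_pow_eq_pow_sum, hμ] at h
  have hpos : 0 < Fintype.card F ^ (n * (n - 1) / 2) * (Fintype.card F - 1) ^ n :=
    Nat.mul_pos (Nat.pow_pos (by omega)) (Nat.pow_pos (by omega))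
  refine Nat.eq_of_mul_eq_mul_left hpos ?_
  linear_combination -h

end Index

end Cfsg.Agent.FlagChar
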