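import Mathlib
import Cfsg.Agent.Lib.FlagChar.Block
import Cfsg.Agent.Lib.Char.PermChar
import Cfsg.Agent.Lib.PermIndOne.Basic

/-!
Bruhat decomposition of `GL_n` and the parabolic double cosets, counted by margin matrices.
-/

set_option autoImplicit false

open Finset Matrix

namespace Cfsg.Agent.FlagChar

variable {F : Type*} [Field F]

section Existence

/-- Insert a row `r` and a column `c` with a single one at their crossing. -/
def ins {n : ℕ} (r c : Fin (n + 1)) (X : Matrix (Fin n) (Fin n) F) : Matrix (Fin (n + 1)) (Fin (n + 1)) F :=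
  Matrix.of fun i j => Fin.succAboveCases (α := fun _ => F) r (Fin.succAboveCases (α := fun _ => F) c 1 (fun _ => 0) j)
    (fun i' => Fin.succAboveCases (α := fun _ => F) c 0 (fun j' => X i' j') j) i

variable {n : ℕ}

@[simp] theorem ins_hh (r c : Fin (n + 1)) (X : Matrix (Fin n) (Fin n) F) : ins r c X r c = 1 := by simp [ins]

@[simp] theorem ins_hs (r c : Fin (n + 1)) (X : Matrix (Fin n) (Fin n) F) (j : Fin n) :
    ins r c X r (c.succAbove j) = 0 := by simp [ins]

@[simp] theorem ins_sh (r c : Fin (n + 1)) (X : Matrix (Fin n) (Fin n) F) (i : Fin n) :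
    ins r c X (r.succAbove i) c = 0 := by simp [ins]

@[simp] theorem ins_ss (r c : Fin (n + 1)) (X : Matrix (Fin n) (Fin n) F) (i j : Fin n) :
    ins r c X (r.succAbove i) (c.succAbove j) = X i j := by simp [ins]

theorem ins_mul (r s c : Fin (n + 1)) (X Y : Matrix (Fin n) (Fin n) F) :
    ins r s X * ins s c Y = ins r c (X * Y) := by
  ext i j
  rw [Matrix.mul_apply, Fin.sum_univ_succAbove _ s]
  refine Fin.succAboveCases r ?_ (fun i => ?_) i <;> refine Fin.succAboveCases c ?_ (fun j => ?_) j <;>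
    simp [Matrix.mul_apply]

theorem ins_blockTriangular (r : Fin (n + 1)) {X : Matrix (Fin n) (Fin n) F} (hX : X.BlockTriangular id) :
    (ins r r X).BlockTriangular id := by
  intro i j
  refine Fin.succAboveCases r ?_ (fun i => ?_) i <;> refine Fin.succAboveCases r ?_ (fun j => ?_) j <;>
    intro h <;> simp only [id_eq] at h
  · exact absurd h (lt_irrefl _)
  · simp
  · simp
  · simpa using hX ((Fin.succAbove_lt_succAbove_iff).1 h)

theorem det_ins (r : Fin (n + 1)) (X : Matrix (Fin n) (Fin n) F) : (ins r r X).det = X.det := by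
  rw [Matrix.det_succ_row _ r, Fin.sum_univ_succAbove _ r]
  simp only [ins_hh, ins_hs, mul_zero, zero_mul, sum_const_zero, add_zero, mul_one]
  rw [Even.neg_one_pow ⟨_, rfl⟩, one_mul]
  congr 1
  ext i j
  simp

/-- The permutation matrix sending `e_j` to `e_{σ j}`. -/
def permMat (F : Type*) [Field F] {n : ℕ} (σ : Equiv.Perm (Fin n)) : Matrix (Fin n) (Fin n) F :=
  Matrix.of fun i j => if i = σ j then 1 else 0

theorem permMat_mul (σ τ : Equiv.Perm (Fin n)) : permMat F σ * permMat F τ = permMat F (σ * τ) := by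
  ext i j
  simp [permMat, Matrix.mul_apply]
  congr

theorem permMat_one : permMat F (1 : Equiv.Perm (Fin n)) = 1 := by
  ext i j
  simp [permMat, Matrix.one_apply]
  congr

/-- Bruhat: every invertible matrix reduces to a permutation matrix by upper triangular factors. -/
theorem exists_bruhat : ∀ (n : ℕ) (M : Matrix (Fin n) (Fin n) F), M.det ≠ 0 →
    ∃ (b b' : Matrix (Fin n) (Fin n) F) (σ : Equiv.Perm (Fin n)), b.BlockTriangular id ∧ b'.BlockTriangular id ∧
      b.det ≠ 0 ∧ b'.det ≠ 0 ∧ b * M * b' = permMat F σ := by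
  intro n
  induction n with
  | zero =>
    intro M _
    exact ⟨1, 1, 1, blockTriangular_one, blockTriangular_one, by simp, by simp, Subsingleton.elim _ _⟩
  | succ n ih =>
    intro M hM
    classical
    have hne : (univ.filter fun i => M i 0 ≠ 0).Nonempty := by
      by_contra H
      rw [Finset.not_nonempty_iff_eq_empty, Finset.filter_eq_empty_iff] at H
      exact hM (Matrix.det_eq_zero_of_column_eq_zero 0 fun i => not_not.1 (H (mem_univ i)))
    set i₀ := (univ.filter fun i => M i 0 ≠ 0).max' hne with hi₀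
    have hc : M i₀ 0 ≠ 0 := (Finset.mem_filter.1 ((univ.filter fun i => M i 0 ≠ 0).max'_mem hne)).2
    have hlow : ∀ i, i₀ < i → M i 0 = 0 := by
      intro i hi
      by_contra H
      exact absurd ((univ.filter fun i => M i 0 ≠ 0).le_max' i (by simp [H])) (not_le.2 hi)
    set c := M i₀ 0 with hcdef
    let L : Matrix (Fin (n + 1)) (Fin (n + 1)) F := Matrix.of fun i j =>
      if i = j then (if i = i₀ then c⁻¹ else 1) else (if j = i₀ ∧ i < i₀ then -M i 0 / c else 0)
    have hL : L.BlockTriangular id := by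
      intro i j h
      simp only [id_eq] at h
      simp only [L, Matrix.of_apply]
      rw [if_neg h.ne', if_neg]
      rintro ⟨rfl, h'⟩
      exact lt_asymm h h'
    have hLrow : ∀ i j, i ≠ i₀ → (L * M) i j = M i j + (if i < i₀ then -M i 0 / c else 0) * M i₀ j := by
      intro i j hi
      rw [Matrix.mul_apply, Fintype.sum_eq_add i i₀ hi]
      · simp [L, hi]
      · intro k hk
        simp [L, Ne.symm hk.1, hk.2]
    have hLrow₀ : ∀ j, (L * M) i₀ j = c⁻¹ * M i₀ j := by
      intro j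
      rw [Matrix.mul_apply, Fintype.sum_eq_single i₀]
      · simp [L]
      · intro k hk
        simp [L, Ne.symm hk, hk]
    set N := L * M with hN
    have hN0 : ∀ i, N i 0 = if i = i₀ then 1 else 0 := by
      intro i
      split_ifs with h
      · subst h; rw [hLrow₀, ← hcdef, inv_mul_cancel₀ hc]
      · rw [hLrow i 0 h, ← hcdef]
        split_ifs with h'
        · rw [div_mul_cancel₀ _ hc, add_neg_cancel]
        · rw [zero_mul, add_zero]
          exact hlow i (lt_of_le_of_ne (not_lt.1 h') (Ne.symm h))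
    let R : Matrix (Fin (n + 1)) (Fin (n + 1)) F := Matrix.of fun i j =>
      if i = j then 1 else (if i = 0 then -N i₀ j else 0)
    have hR : R.BlockTriangular id := by
      intro i j h
      simp only [id_eq] at h
      simp only [R, Matrix.of_apply]
      rw [if_neg h.ne', if_neg]
      rintro rfl
      exact absurd h (Fin.not_lt_zero _)
    have hNR0 : ∀ i, (N * R) i 0 = N i 0 := by
      intro i
      rw [Matrix.mul_apply, Fintype.sum_eq_single 0]
      · simp [R]
      · intro k hk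
        simp [R, hk]
    have hNR : ∀ i j, j ≠ 0 → (N * R) i j = N i j + N i 0 * (-N i₀ j) := by
      intro i j hj
      rw [Matrix.mul_apply, Fintype.sum_eq_add j 0 hj]
      · simp [R, Ne.symm hj]
      · intro k hk
        simp [R, hk.1, hk.2]
    let M' : Matrix (Fin n) (Fin n) F := (N * R).submatrix i₀.succAbove (Fin.succAbove 0)
    have hM₁ : N * R = ins i₀ 0 M' := by
      ext i j
      refine Fin.succAboveCases i₀ ?_ (fun i => ?_) i <;> refine Fin.succAboveCases 0 ?_ (fun j => ?_) j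
      · rw [hNR0, hN0, ins_hh, if_pos rfl]
      · rw [hNR _ _ (Fin.succAbove_ne _ _), hN0, if_pos rfl, ins_hs]
        ring
      · rw [hNR0, hN0, ins_sh, if_neg (Fin.succAbove_ne _ _)]
      · rw [ins_ss]; rfl
    have hdetL : L.det ≠ 0 := by
      rw [Matrix.det_of_isUpperTriangular hL]
      refine Finset.prod_ne_zero_iff.2 fun i _ => ?_
      simp only [L, Matrix.of_apply, if_true]
      split_ifs
      · exact inv_ne_zero hc
      · exact one_ne_zero
    have hdetR : R.det ≠ 0 := by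
      rw [Matrix.det_of_isUpperTriangular hR]
      simp [R]
    have hM'det : M'.det ≠ 0 := by
      intro h
      have h1 : (N * R).det ≠ 0 := by
        rw [hN, Matrix.det_mul, Matrix.det_mul]; exact mul_ne_zero (mul_ne_zero hdetL hM) hdetR
      apply h1
      rw [Matrix.det_succ_row _ i₀, Fin.sum_univ_succAbove _ 0]
      have : ((N * R).submatrix i₀.succAbove (Fin.succAbove 0)).det = 0 := h
      rw [this, mul_zero, zero_add]
      refine Finset.sum_eq_zero fun j _ => ?_
      rw [hM₁, ins_hs, mul_zero, zero_mul]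
    obtain ⟨b, b', τ, hb, hb', hbd, hb'd, hprod⟩ := ih M' hM'det
    let σ : Equiv.Perm (Fin (n + 1)) := (finSuccEquiv' 0).trans (τ.optionCongr.trans (finSuccEquiv' i₀).symm)
    refine ⟨ins i₀ i₀ b * L, R * ins 0 0 b', σ, (ins_blockTriangular i₀ hb).mul hL,
      hR.mul (ins_blockTriangular 0 hb'), ?_, ?_, ?_⟩
    · rw [Matrix.det_mul, det_ins]; exact mul_ne_zero hbd hdetL
    · rw [Matrix.det_mul, det_ins]; exact mul_ne_zero hdetR hb'd
    · rw [show ins i₀ i₀ b * L * M * (R * ins 0 0 b') = ins i₀ i₀ b * (N * R) * ins 0 0 b' by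
        rw [hN]; simp [Matrix.mul_assoc], hM₁, ins_mul, ins_mul, hprod]
      have hσ0 : σ 0 = i₀ := by simp [σ]
      have hσs : ∀ j : Fin n, σ (Fin.succAbove 0 j) = i₀.succAbove (τ j) := by
        intro j
        simp only [σ, Equiv.trans_apply, finSuccEquiv'_succAbove, Equiv.optionCongr_apply, Option.map_some,
          finSuccEquiv'_symm_some]
      ext i j
      refine Fin.succAboveCases i₀ ?_ (fun i => ?_) i <;> refine Fin.succAboveCases 0 ?_ (fun j => ?_) j
      · simp [permMat, hσ0]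
      · rw [ins_hs, permMat, Matrix.of_apply, hσs, if_neg (Fin.succAbove_ne _ _).symm]
      · rw [ins_sh, permMat, Matrix.of_apply, hσ0, if_neg (Fin.succAbove_ne _ _)]
      · rw [ins_ss, permMat, Matrix.of_apply, permMat, Matrix.of_apply, hσs]
        exact if_congr (Fin.succAbove_right_inj).symm rfl rfl

end Existence

section Count

variable {n : ℕ}

/-- Number of `j` with labels `(a, b)`. -/
def cnt (l₁ l₂ : Fin n → Fin n) (σ : Equiv.Perm (Fin n)) (a b : Fin n) : ℕ :=
  (univ.filter fun j => l₁ (σ j) = a ∧ l₂ j = b).card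

/-- Matrices with given margins. -/
def Margin (α β : Fin n → ℕ) : Type :=
  {A : Fin n → Fin n → ℕ // (∀ a, ∑ b, A a b = α a) ∧ ∀ b, ∑ a, A a b = β b}

theorem cnt_margin (l₁ l₂ : Fin n → Fin n) (σ : Equiv.Perm (Fin n)) :
    (∀ a, ∑ b, cnt l₁ l₂ σ a b = (univ.filter fun i => l₁ i = a).card) ∧
      ∀ b, ∑ a, cnt l₁ l₂ σ a b = (univ.filter fun i => l₂ i = b).card := by
  constructor
  · intro a
    rw [card_equiv σ.symm (t := univ.filter fun j => l₁ (σ j) = a) (by simp),
      card_eq_sum_card_fiberwise (f := l₂) (t := univ) (fun _ _ => mem_univ _)]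
    simp only [cnt, Finset.filter_filter]
  · intro b
    rw [card_eq_sum_card_fiberwise (f := fun j => l₁ (σ j)) (t := univ) (fun _ _ => mem_univ _)]
    simp only [cnt, Finset.filter_filter, and_comm]

theorem cnt_surjective (l₁ l₂ : Fin n → Fin n) (α β : Fin n → ℕ)
    (hα : ∀ a, (univ.filter fun i => l₁ i = a).card = α a)
    (hβ : ∀ b, (univ.filter fun i => l₂ i = b).card = β b) (A : Margin α β) :
    ∃ σ, cnt l₁ l₂ σ = A.1 := by
  classical
  let Z := Σ p : Fin n × Fin n, Fin (A.1 p.1 p.2)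
  have hZ₁ : ∀ a, (univ.filter fun z : Z => z.1.1 = a).card = α a := by
    intro a
    rw [← A.2.1 a, ← Fintype.card_subtype]
    rw [Fintype.card_congr (show {z : Z // z.1.1 = a} ≃ Σ b, Fin (A.1 a b) from
      { toFun := fun z => ⟨z.1.1.2, Fin.cast (congrArg (fun x => A.1 x z.1.1.2) z.2) z.1.2⟩
        invFun := fun w => ⟨⟨(a, w.1), w.2⟩, rfl⟩
        left_inv := by rintro ⟨⟨⟨x, y⟩, k⟩, h⟩; cases h; rfl
        right_inv := by rintro ⟨b, k⟩; rfl })]
    simp
  have hZ₂ : ∀ b, (univ.filter fun z : Z => z.1.2 = b).card = β b := by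
    intro b
    rw [← A.2.2 b, ← Fintype.card_subtype]
    rw [Fintype.card_congr (show {z : Z // z.1.2 = b} ≃ Σ a, Fin (A.1 a b) from
      { toFun := fun z => ⟨z.1.1.1, Fin.cast (congrArg (fun x => A.1 z.1.1.1 x) z.2) z.1.2⟩
        invFun := fun w => ⟨⟨(w.1, b), w.2⟩, rfl⟩
        left_inv := by rintro ⟨⟨⟨x, y⟩, k⟩, h⟩; cases h; rfl
        right_inv := by rintro ⟨a, k⟩; rfl })]
    simp
  have e₁ : ∀ a, {z : Z // z.1.1 = a} ≃ {i // l₁ i = a} := fun a =>
    Fintype.equivOfCardEq (by rw [Fintype.card_subtype, Fintype.card_subtype, hZ₁, hα])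
  have e₂ : ∀ b, {i // l₂ i = b} ≃ {z : Z // z.1.2 = b} := fun b =>
    Fintype.equivOfCardEq (by rw [Fintype.card_subtype, Fintype.card_subtype, hZ₂, hβ])
  let f₂ : Fin n ≃ Z := Equiv.ofFiberEquiv e₂
  let f₁ : Z ≃ Fin n := Equiv.ofFiberEquiv e₁
  refine ⟨f₂.trans f₁, funext fun a => funext fun b => ?_⟩
  have h1 : ∀ z, l₁ (f₁ z) = z.1.1 := fun z => Equiv.ofFiberEquiv_map e₁ z
  have h2 : ∀ j, (f₂ j).1.2 = l₂ j := fun j => Equiv.ofFiberEquiv_map e₂ j
  rw [cnt, card_equiv f₂ (t := univ.filter fun z : Z => z.1 = (a, b)) (fun j => by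
    simp [h1, ← h2, Prod.ext_iff])]
  rw [← Fintype.card_subtype, Fintype.card_congr (show {z : Z // z.1 = (a, b)} ≃ Fin (A.1 a b) from
      { toFun := fun z => Fin.cast (congrArg (fun p : Fin n × Fin n => A.1 p.1 p.2) z.2) z.1.2
        invFun := fun k => ⟨⟨(a, b), k⟩, rfl⟩
        left_inv := by rintro ⟨⟨p, k⟩, h⟩; cases h; rfl
        right_inv := fun k => rfl })]
  simp

theorem exists_factor (l₁ l₂ : Fin n → Fin n) (σ σ' : Equiv.Perm (Fin n))
    (h : cnt l₁ l₂ σ = cnt l₁ l₂ σ') :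
    ∃ y₁ y₂ : Equiv.Perm (Fin n), (∀ i, l₁ (y₁ i) = l₁ i) ∧ (∀ i, l₂ (y₂ i) = l₂ i) ∧ σ' = y₁ * σ * y₂ := by
  classical
  have e : ∀ p : Fin n × Fin n, {j // (l₁ (σ' j), l₂ j) = p} ≃ {j // (l₁ (σ j), l₂ j) = p} := fun p =>
    Fintype.equivOfCardEq (by
      simp only [Fintype.card_subtype, Prod.ext_iff]
      exact (congrFun₂ h p.1 p.2).symm)
  let y : Equiv.Perm (Fin n) := Equiv.ofFiberEquiv e
  have hy : ∀ j, l₁ (σ (y j)) = l₁ (σ' j) ∧ l₂ (y j) = l₂ j :=
    fun j => Prod.ext_iff.1 (Equiv.ofFiberEquiv_map e j)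
  refine ⟨σ' * y⁻¹ * σ⁻¹, y, fun i => ?_, fun i => (hy i).2, by group⟩
  simp only [Equiv.Perm.mul_apply]
  rw [← (hy (y⁻¹ (σ⁻¹ i))).1]
  simp

/-- Orbits on pairs of cosets are counted by margin matrices. -/
theorem card_orbits {G : Type*} [Group G] (l₁ l₂ : Fin n → Fin n) (α β : Fin n → ℕ)
    (hα : ∀ a, (univ.filter fun i => l₁ i = a).card = α a)
    (hβ : ∀ b, (univ.filter fun i => l₂ i = b).card = β b)
    (e : Equiv.Perm (Fin n) →* G) (H K : Subgroup G)
    (hH : ∀ y : Equiv.Perm (Fin n), (∀ i, l₁ (y i) = l₁ i) → e y ∈ H)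
    (hK : ∀ y : Equiv.Perm (Fin n), (∀ i, l₂ (y i) = l₂ i) → e y ∈ K)
    (hinv : ∀ σ σ' : Equiv.Perm (Fin n), ∀ h ∈ H, ∀ k ∈ K, e σ' = h * e σ * k → cnt l₁ l₂ σ = cnt l₁ l₂ σ')
    (hsurj : ∀ g : G, ∃ σ, ∃ h ∈ H, ∃ k ∈ K, g = h * e σ * k) :
    Nat.card (Quotient (MulAction.orbitRel G ((G ⧸ H) × (G ⧸ K)))) = Nat.card (Margin α β) := by
  let f : Equiv.Perm (Fin n) → Quotient (MulAction.orbitRel G ((G ⧸ H) × (G ⧸ K))) := fun σ =>
    Quotient.mk _ (((1 : G) : G ⧸ H), ((e σ : G) : G ⧸ K))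
  let c : Equiv.Perm (Fin n) → Margin α β := fun σ => ⟨cnt l₁ l₂ σ,
    fun a => ((cnt_margin l₁ l₂ σ).1 a).trans (hα a), fun b => ((cnt_margin l₁ l₂ σ).2 b).trans (hβ b)⟩
  have hf : Function.Surjective f := by
    intro q
    induction q using Quotient.inductionOn with
    | h x =>
      obtain ⟨x, z⟩ := x
      induction x using QuotientGroup.induction_on with
      | H x =>
        induction z using QuotientGroup.induction_on with
        | H z =>
          obtain ⟨σ, h, hh, k, hk, hg⟩ := hsurj (x⁻¹ * z)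
          refine ⟨σ, Quotient.sound ?_⟩
          refine ⟨(x * h)⁻¹, ?_⟩
          show ((((x * h)⁻¹ * x : G) : G ⧸ H), (((x * h)⁻¹ * z : G) : G ⧸ K)) = _
          refine Prod.ext ?_ ?_
          · exact QuotientGroup.eq.2 (by simpa using hh)
          · refine QuotientGroup.eq.2 ?_
            have : ((x * h)⁻¹ * z)⁻¹ * e σ = k⁻¹ := by
              rw [show z = x * (h * e σ * k) by rw [← hg]; group]; group
            rw [this]; exact inv_mem hk
  have hc : Function.Surjective c := fun A => by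
    obtain ⟨σ, hσ⟩ := cnt_surjective l₁ l₂ α β hα hβ A
    exact ⟨σ, Subtype.ext hσ⟩
  have hiff : ∀ σ σ', f σ = f σ' ↔ c σ = c σ' := by
    intro σ σ'
    constructor
    · intro h
      obtain ⟨g, hg⟩ := Quotient.exact h
      have hg1 : (((g * 1 : G)) : G ⧸ H) = ((1 : G) : G ⧸ H) := congrArg Prod.fst hg
      have hg2 : ((g * e σ' : G) : G ⧸ K) = ((e σ : G) : G ⧸ K) := congrArg Prod.snd hg
      have hgH : g ∈ H := by simpa using QuotientGroup.eq.1 hg1
      have hgK := QuotientGroup.eq.1 hg2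
      refine Subtype.ext (hinv σ' σ g hgH ((g * e σ')⁻¹ * e σ) hgK ?_).symm
      group
    · intro h
      obtain ⟨y₁, y₂, h1, h2, rfl⟩ := exists_factor l₁ l₂ σ σ' (congrArg Subtype.val h)
      refine Quotient.sound ⟨(e y₁)⁻¹, ?_⟩
      show ((((e y₁)⁻¹ * 1 : G) : G ⧸ H), (((e y₁)⁻¹ * e (y₁ * σ * y₂) : G) : G ⧸ K)) = _
      refine Prod.ext (QuotientGroup.eq.2 (by simpa using hH y₁ h1)) (QuotientGroup.eq.2 ?_)
      rw [map_mul, map_mul, show ((e y₁)⁻¹ * (e y₁ * e σ * e y₂))⁻¹ * e σ = (e y₂)⁻¹ by group]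
      exact inv_mem (hK y₂ h2)
  refine Nat.card_congr (Equiv.ofBijective (fun q => c (Function.surjInv hf q)) ⟨?_, ?_⟩)
  · intro p q h
    rw [← Function.surjInv_eq hf p, ← Function.surjInv_eq hf q]
    exact (hiff _ _).2 h
  · intro A
    obtain ⟨σ, rfl⟩ := hc A
    exact ⟨f σ, (hiff _ _).1 (Function.surjInv_eq hf (f σ))⟩

end Count

section Parabolic

variable {n : ℕ}

/-- Permutation matrices as a homomorphism into `GL_n`. -/
noncomputable def permGL (F : Type*) [Field F] (n : ℕ) : Equiv.Perm (Fin n) →* GL (Fin n) F :=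
  MonoidHom.toHomUnits { toFun := permMat F, map_one' := permMat_one, map_mul' := fun σ τ => (permMat_mul σ τ).symm }

theorem coe_permGL (σ : Equiv.Perm (Fin n)) : ((permGL F n σ : GL (Fin n) F) : Matrix (Fin n) (Fin n) F) = permMat F σ :=
  rfl

theorem permGL_mem (μ : Fin n → ℕ) (hμ : ∑ i, μ i = n) (y : Equiv.Perm (Fin n))
    (hy : ∀ i, finLabel μ hμ (y i) = finLabel μ hμ i) : permGL F n y ∈ parabolicGL n F μ := by
  rw [mem_parabolicGL_iff μ hμ, coe_permGL]
  intro i j hij
  simp only [permMat, Matrix.of_apply]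
  rw [if_neg]
  rintro rfl
  rw [hy] at hij
  exact lt_irrefl _ hij

/-- Corner block: rows of label at least `a`, columns of label at most `b`. -/
def corner (l₁ l₂ : Fin n → Fin n) (a : ℕ) (b : Fin n) (M : Matrix (Fin n) (Fin n) F) :
    Matrix {i // a ≤ (l₁ i).val} {j // l₂ j ≤ b} F := M.submatrix Subtype.val Subtype.val

theorem corner_left (l₁ l₂ : Fin n → Fin n) (a : ℕ) (b : Fin n) (p M : Matrix (Fin n) (Fin n) F)
    (hp : p.BlockTriangular l₁) :
    corner l₁ l₂ a b (p * M) =
      p.submatrix (Subtype.val : {i // a ≤ (l₁ i).val} → Fin n) Subtype.val * corner l₁ l₂ a b M := by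
  ext ⟨i, hi⟩ ⟨j, hj⟩
  show (p * M) i j = ∑ k : {i // a ≤ (l₁ i).val}, p i k.1 * M k.1 j
  rw [Matrix.mul_apply, ← Finset.sum_subtype (univ.filter fun k => a ≤ (l₁ k).val) (by simp) (fun k => p i k * M k j)]
  refine (Finset.sum_filter_of_ne fun k _ hk => ?_).symm
  by_contra H
  exact hk (by rw [hp (show l₁ k < l₁ i from Fin.lt_def.2 (by omega)), zero_mul])

theorem corner_right (l₁ l₂ : Fin n → Fin n) (a : ℕ) (b : Fin n) (M q : Matrix (Fin n) (Fin n) F)
    (hq : q.BlockTriangular l₂) :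
    corner l₁ l₂ a b (M * q) =
      corner l₁ l₂ a b M * q.submatrix (Subtype.val : {j // l₂ j ≤ b} → Fin n) Subtype.val := by
  ext ⟨i, hi⟩ ⟨j, hj⟩
  show (M * q) i j = ∑ k : {j // l₂ j ≤ b}, M i k.1 * q k.1 j
  rw [Matrix.mul_apply, ← Finset.sum_subtype (univ.filter fun k => l₂ k ≤ b) (by simp) (fun k => M i k * q k j)]
  refine (Finset.sum_filter_of_ne fun k _ hk => ?_).symm
  by_contra H
  exact hk (by rw [hq (lt_of_le_of_lt hj (not_le.1 H)), mul_zero])

theorem rank_corner_perm (l₁ l₂ : Fin n → Fin n) (a : ℕ) (b : Fin n) (σ : Equiv.Perm (Fin n)) :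
    (corner l₁ l₂ a b (permMat F σ)).rank = (univ.filter fun j => a ≤ (l₁ (σ j)).val ∧ l₂ j ≤ b).card := by
  classical
  set C := corner l₁ l₂ a b (permMat F σ)
  let w : {i // a ≤ (l₁ i).val} → F := fun i => if l₂ (σ.symm i.1) ≤ b then 1 else 0
  have h1 : C * C.transpose = Matrix.diagonal w := by
    ext ⟨i, hi⟩ ⟨i', hi'⟩
    simp only [C, corner, Matrix.mul_apply, Matrix.submatrix_apply, Matrix.transpose_apply, permMat,
      Matrix.of_apply]
    by_cases hb : l₂ (σ.symm i) ≤ b
    · rw [Fintype.sum_eq_single (⟨σ.symm i, hb⟩ : {j // l₂ j ≤ b})]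
      · simp [Matrix.diagonal_apply, w, hb, eq_comm]
      · rintro ⟨j, hj⟩ hne
        have : i ≠ σ j := fun e => hne (Subtype.ext (by simp [e]))
        simp [this]
    · rw [Fintype.sum_eq_zero]
      · simp [Matrix.diagonal_apply, w, hb]
      · rintro ⟨j, hj⟩
        have : i ≠ σ j := fun e => hb (by simpa [e] using hj)
        simp [this]
  have h2 : Matrix.diagonal w * C = C := by
    ext ⟨i, hi⟩ ⟨j, hj⟩
    rw [Matrix.diagonal_mul]
    simp only [C, corner, Matrix.submatrix_apply, permMat, Matrix.of_apply, w]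
    by_cases e : i = σ j
    · subst e; simp [hj]
    · simp [e]
  have hr : C.rank = (Matrix.diagonal w).rank := by
    apply le_antisymm
    · conv_lhs => rw [← h2]
      exact Matrix.rank_mul_le_left _ _
    · rw [← h1]
      exact Matrix.rank_mul_le_left _ _
  rw [hr, Matrix.rank_diagonal, ← Fintype.card_subtype]
  refine Fintype.card_congr
    { toFun := fun i => ⟨σ.symm i.1.1, by
        have h := i.2
        simp only [w, ne_eq, ite_eq_right_iff, one_ne_zero, imp_false, not_not] at h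
        exact ⟨by simpa using i.1.2, h⟩⟩
      invFun := fun j => ⟨⟨σ j.1, j.2.1⟩, by simp [w, j.2.2]⟩
      left_inv := fun i => by ext; simp
      right_inv := fun j => by ext; simp }

theorem cnt_eq_of_corner (l₁ l₂ : Fin n → Fin n) (σ σ' : Equiv.Perm (Fin n))
    (h : ∀ (a : ℕ) (b : Fin n), (univ.filter fun j => a ≤ (l₁ (σ j)).val ∧ l₂ j ≤ b).card =
      (univ.filter fun j => a ≤ (l₁ (σ' j)).val ∧ l₂ j ≤ b).card) :
    cnt l₁ l₂ σ = cnt l₁ l₂ σ' := by
  have key : ∀ (τ : Equiv.Perm (Fin n)) (a b : Fin n),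
      (univ.filter fun j => a.val ≤ (l₁ (τ j)).val ∧ l₂ j ≤ b).card =
        (univ.filter fun j => a.val + 1 ≤ (l₁ (τ j)).val ∧ l₂ j ≤ b).card +
        (univ.filter fun j => l₁ (τ j) = a ∧ l₂ j ≤ b).card := by
    intro τ a b
    rw [← card_union_of_disjoint (disjoint_filter.2 fun j _ h h' => by rw [h'.1] at h; omega)]
    congr 1
    ext j
    simp [Fin.ext_iff]
    omega
  have h2 : ∀ a b, (univ.filter fun j => l₁ (σ j) = a ∧ l₂ j ≤ b).card =
      (univ.filter fun j => l₁ (σ' j) = a ∧ l₂ j ≤ b).card := by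
    intro a b
    have := key σ a b
    have := key σ' a b
    have := h a.val b
    have := h (a.val + 1) b
    omega
  have key2 : ∀ (τ : Equiv.Perm (Fin n)) (a b : Fin n), (univ.filter fun j => l₁ (τ j) = a ∧ l₂ j ≤ b).card =
      (univ.filter fun j => l₁ (τ j) = a ∧ (l₂ j).val < b.val).card + cnt l₁ l₂ τ a b := by
    intro τ a b
    rw [cnt, ← card_union_of_disjoint (disjoint_filter.2 fun j _ h h' => by rw [h'.2] at h; omega)]
    congr 1
    ext j
    simp only [mem_union, mem_filter, mem_univ, true_and, Fin.ext_iff, Fin.le_def]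
    omega
  funext a b
  have := key2 σ a b
  have := key2 σ' a b
  have := h2 a b
  rcases Nat.eq_zero_or_pos b.val with hb | hb
  · simp only [hb, Nat.not_lt_zero, and_false, filter_false, card_empty] at *
    omega
  · have e : ∀ τ : Equiv.Perm (Fin n), (univ.filter fun j => l₁ (τ j) = a ∧ (l₂ j).val < b.val).card =
        (univ.filter fun j => l₁ (τ j) = a ∧ l₂ j ≤ ⟨b.val - 1, by omega⟩).card := by
      intro τ
      congr 1
      ext j
      simp [Fin.le_def]
      omega
    have := e σ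
    have := e σ'
    have := h2 a ⟨b.val - 1, by omega⟩
    omega

theorem cnt_invariant (μ ν : Fin n → ℕ) (hμ : ∑ i, μ i = n) (hν : ∑ i, ν i = n)
    (σ σ' : Equiv.Perm (Fin n)) (h : GL (Fin n) F) (hh : h ∈ parabolicGL n F μ) (k : GL (Fin n) F)
    (hk : k ∈ parabolicGL n F ν) (e : permGL F n σ' = h * permGL F n σ * k) :
    cnt (finLabel μ hμ) (finLabel ν hν) σ = cnt (finLabel μ hμ) (finLabel ν hν) σ' := by
  apply cnt_eq_of_corner
  have le : ∀ (τ τ' : Equiv.Perm (Fin n)) (h : GL (Fin n) F), h ∈ parabolicGL n F μ → ∀ k : GL (Fin n) F,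
      k ∈ parabolicGL n F ν → permGL F n τ' = h * permGL F n τ * k → ∀ a b,
      (corner (finLabel μ hμ) (finLabel ν hν) a b (permMat F τ')).rank ≤
        (corner (finLabel μ hμ) (finLabel ν hν) a b (permMat F τ)).rank := by
    intro τ τ' h hh k hk e a b
    rw [← coe_permGL τ', e, Units.val_mul, Units.val_mul, coe_permGL,
      corner_right _ _ _ _ _ _ ((mem_parabolicGL_iff ν hν k).1 hk),
      corner_left _ _ _ _ _ _ ((mem_parabolicGL_iff μ hμ h).1 hh)]
    exact (Matrix.rank_mul_le_left _ _).trans (Matrix.rank_mul_le_right _ _)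
  intro a b
  rw [← rank_corner_perm (F := F), ← rank_corner_perm (F := F)]
  exact le_antisymm (le σ' σ h⁻¹ (inv_mem hh) k⁻¹ (inv_mem hk) (by rw [e]; group) a b)
    (le σ σ' h hh k hk e a b)

theorem exists_double (μ ν : Fin n → ℕ) (hμ : ∑ i, μ i = n) (hν : ∑ i, ν i = n) (g : GL (Fin n) F) :
    ∃ σ, ∃ h ∈ parabolicGL n F μ, ∃ k ∈ parabolicGL n F ν, g = h * permGL F n σ * k := by
  obtain ⟨b, b', σ, hb, hb', hbd, hb'd, e⟩ := exists_bruhat n (g : Matrix (Fin n) (Fin n) F)
    ((Matrix.isUnit_iff_isUnit_det _).1 g.isUnit).ne_zero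
  let B := GeneralLinearGroup.mkOfDetNeZero b hbd
  let B' := GeneralLinearGroup.mkOfDetNeZero b' hb'd
  have hB : ∀ (μ : Fin n → ℕ) (M : Matrix (Fin n) (Fin n) F) (_ : M.BlockTriangular id),
      M.BlockTriangular (compLabel μ) := fun μ M hM i j hij => hM (lt_of_not_ge fun h =>
        absurd (monotone_compLabel μ h) (not_le.2 hij))
  refine ⟨σ, B⁻¹, inv_mem (hB μ b hb), B'⁻¹, inv_mem (hB ν b' hb'), ?_⟩
  have : B * g * B' = permGL F n σ := Units.ext e
  rw [← this]; group

/-- Number of orbits of `GL_n` on pairs of flags. -/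
theorem card_orbits_GL (μ ν : Fin n → ℕ) (hμ : ∑ i, μ i = n) (hν : ∑ i, ν i = n) :
    Nat.card (Quotient (MulAction.orbitRel (GL (Fin n) F)
      ((GL (Fin n) F ⧸ parabolicGL n F μ) × (GL (Fin n) F ⧸ parabolicGL n F ν)))) = Nat.card (Margin μ ν) :=
  card_orbits (finLabel μ hμ) (finLabel ν hν) μ ν (card_finLabel_eq μ hμ) (card_finLabel_eq ν hν)
    (permGL F n) _ _ (permGL_mem μ hμ) (permGL_mem ν hν)
    (fun σ σ' h hh k hk => cnt_invariant μ ν hμ hν σ σ' h hh k hk) (exists_double μ ν hμ hν)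

/-- Number of orbits of `S_n` on pairs of set compositions. -/
theorem card_orbits_Perm (μ ν : Fin n → ℕ) (hμ : ∑ i, μ i = n) (hν : ∑ i, ν i = n) :
    Nat.card (Quotient (MulAction.orbitRel (Equiv.Perm (Fin n))
      ((Equiv.Perm (Fin n) ⧸ youngSubgroup μ) × (Equiv.Perm (Fin n) ⧸ youngSubgroup ν)))) = Nat.card (Margin μ ν) :=
  card_orbits (finLabel μ hμ) (finLabel ν hν) μ ν (card_finLabel_eq μ hμ) (card_finLabel_eq ν hν)
    (MonoidHom.id _) _ _ (fun y hy i => congrArg Fin.val (hy i)) (fun y hy i => congrArg Fin.val (hy i))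
    (fun σ σ' h hh k hk e => by
      simp only [MonoidHom.id_apply] at e
      subst e
      funext a b
      refine card_equiv k.symm fun j => ?_
      rw [Finset.mem_filter, Finset.mem_filter]
      simp only [mem_univ, true_and, Equiv.Perm.mul_apply]
      have hk' : ∀ i, finLabel ν hν (k i) = finLabel ν hν i := fun i => Fin.ext (hk i)
      have hh' : ∀ i, finLabel μ hμ (h i) = finLabel μ hμ i := fun i => Fin.ext (hh i)
      rw [hh', Equiv.apply_symm_apply, ← hk' (k.symm j), Equiv.apply_symm_apply])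
    (fun g => ⟨g, 1, one_mem _, 1, one_mem _, by simp⟩)

end Parabolic

open scoped ComplexConjugate in
/-- The average product of two permutation characters counts orbits. -/
theorem average_mul_eq {G : Type*} [Group G] [Fintype G] (H K : Subgroup G) :
    (Nat.card G : ℂ)⁻¹ * ∑ g : G, fixedPointCharacter H g * fixedPointCharacter K g =
      Nat.card (Quotient (MulAction.orbitRel G ((G ⧸ H) × (G ⧸ K)))) := by
  rw [← Cfsg.Agent.Char.classInner_fixedBy_one]
  simp only [classInner, map_one, mul_one, fixedPointCharacter,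
    Cfsg.Agent.Char.card_fixedBy_prod', Nat.cast_mul]

end Cfsg.Agent.FlagChar
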