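import Mathlib
import Cfsg.Agent.Lib.FlagChar.Bruhat

/-!
The coefficient identity behind the orthogonality of the alternating sums: the Cauchy determinant,
read off on margin-matrix counts.
-/

set_option autoImplicit false

open Finset

namespace Cfsg.Agent.FlagChar

variable {n : ℕ}

/-- The matrix with entries `∏_{k ≠ j} (1 - x_i y_k)`. -/
def prodMat {R : Type*} [CommRing R] (x y : Fin n → R) : Matrix (Fin n) (Fin n) R :=
  Matrix.of fun i j => ∏ k ∈ univ.erase j, (1 - x i * y k)

/-- Its coefficient factor. -/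
noncomputable def coefMat {R : Type*} [CommRing R] (y : Fin n → R) : Matrix (Fin n) (Fin n) R :=
  Matrix.of fun k j => (∏ l ∈ univ.erase j, (1 - Polynomial.C (y l) * Polynomial.X)).coeff k.val

theorem prodMat_eq {R : Type*} [CommRing R] (x y : Fin n → R) :
    prodMat x y = Matrix.vandermonde x * coefMat y := by
  ext i j
  set p : Polynomial R := ∏ l ∈ univ.erase j, (1 - Polynomial.C (y l) * Polynomial.X) with hp
  have hdeg : p.natDegree < n := by
    have h : p.natDegree ≤ ∑ l ∈ univ.erase j, (1 - Polynomial.C (y l) * Polynomial.X).natDegree :=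
      Polynomial.natDegree_prod_le _ _
    have hn := j.pos
    have h1 : ∀ l, (1 - Polynomial.C (y l) * Polynomial.X).natDegree ≤ 1 := fun l =>
      (Polynomial.natDegree_sub_le _ _).trans (max_le (by simp)
        ((Polynomial.natDegree_C_mul_le _ _).trans Polynomial.natDegree_X_le))
    have h2 : p.natDegree ≤ ∑ _l ∈ univ.erase j, 1 := h.trans (sum_le_sum fun l _ => h1 l)
    simp at h2
    omega
  have he : p.eval (x i) = prodMat x y i j := by
    rw [hp, Polynomial.eval_prod]
    simp only [prodMat, Matrix.of_apply, Polynomial.eval_sub, Polynomial.eval_one, Polynomial.eval_mul,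
      Polynomial.eval_C, Polynomial.eval_X]
    exact prod_congr rfl fun k _ => by rw [mul_comm]
  rw [← he, Polynomial.eval_eq_sum_range' hdeg, ← Fin.sum_univ_eq_sum_range (fun k => p.coeff k * x i ^ k),
    Matrix.mul_apply]
  exact sum_congr rfl fun k _ => (mul_comm (p.coeff k.val) (x i ^ k.val))

theorem prod_offdiag {M : Type*} [CommMonoid M] (f : Fin n → Fin n → M) :
    ∏ i, ∏ k ∈ univ.erase i, f i k = ∏ i, ∏ k ∈ Ioi i, (f i k * f k i) := by
  simp only [prod_mul_distrib]
  rw [show ∏ i, ∏ k ∈ Ioi i, f k i = ∏ i, ∏ k ∈ Iio i, f i k from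
    Finset.prod_comm' fun a b => by simp, ← prod_mul_distrib]
  refine prod_congr rfl fun i _ => ?_
  rw [← prod_union (disjoint_left.2 fun k h1 h2 => lt_asymm (mem_Ioi.1 h1) (mem_Iio.1 h2))]
  refine prod_congr ?_ fun _ _ => rfl
  ext k
  simp [lt_or_lt_iff_ne, eq_comm]

theorem det_coefMat {K : Type*} [Field K] (y : Fin n → K) (h0 : ∀ i, y i ≠ 0) (hinj : Function.Injective y) :
    (coefMat y).det = (Matrix.vandermonde y).det := by
  classical
  set v : Fin n → K := fun i => (y i)⁻¹
  have hv : (Matrix.vandermonde v).det ≠ 0 :=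
    Matrix.det_vandermonde_ne_zero_iff.2 fun a b e => hinj (inv_injective e)
  apply mul_left_cancel₀ hv
  rw [← Matrix.det_mul, ← prodMat_eq]
  have hdiag : prodMat v y = Matrix.diagonal fun i => ∏ k ∈ univ.erase i, (1 - v i * y k) := by
    ext i j
    rcases eq_or_ne i j with rfl | hij
    · simp [prodMat]
    · rw [Matrix.diagonal_apply_ne _ hij]
      exact prod_eq_zero (mem_erase.2 ⟨hij, mem_univ i⟩) (by simp [v, h0 i])
  rw [hdiag, Matrix.det_diagonal, prod_offdiag, Matrix.det_vandermonde, Matrix.det_vandermonde,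
    ← prod_mul_distrib]
  refine prod_congr rfl fun i _ => ?_
  rw [← prod_mul_distrib]
  refine prod_congr rfl fun k _ => ?_
  have := h0 i
  have := h0 k
  simp only [v]
  field_simp

/-- The variables. -/
abbrev Poly (n : ℕ) := MvPolynomial (Fin n ⊕ Fin n) ℤ

/-- The `x`-variables. -/
noncomputable def xv (i : Fin n) : Poly n := MvPolynomial.X (Sum.inl i)

/-- The `y`-variables. -/
noncomputable def yv (i : Fin n) : Poly n := MvPolynomial.X (Sum.inr i)

/-- Truncated geometric series. -/
noncomputable def geo (M : ℕ) (t : Poly n) : Poly n := ∑ m : Fin M, t ^ m.val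

theorem det_prodMat :
    (prodMat (xv (n := n)) yv).det = (Matrix.vandermonde (xv (n := n))).det * (Matrix.vandermonde (yv (n := n))).det := by
  apply IsFractionRing.injective (Poly n) (FractionRing (Poly n))
  set φ := algebraMap (Poly n) (FractionRing (Poly n))
  have hP : φ (prodMat (xv (n := n)) yv).det = (prodMat (φ ∘ xv) (φ ∘ yv)).det := by
    rw [φ.map_det]
    congr 1
    ext i j
    simp [prodMat]
  have hV : ∀ x : Fin n → Poly n, φ (Matrix.vandermonde x).det = (Matrix.vandermonde (φ ∘ x)).det := by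
    intro x
    rw [φ.map_det]
    congr 1
    ext i j
    simp [Matrix.vandermonde]
  rw [map_mul, hP, hV, hV, prodMat_eq, Matrix.det_mul, det_coefMat]
  · intro i
    rw [Function.comp_apply, map_ne_zero_iff φ (IsFractionRing.injective _ _)]
    exact MvPolynomial.X_ne_zero _
  · exact (IsFractionRing.injective _ _).comp fun a b e => Sum.inr_injective (MvPolynomial.X_injective e)

/-- Truncation ideal. -/
noncomputable def truncIdeal (n M : ℕ) : Ideal (Poly n) :=
  Ideal.span ((fun s => MvPolynomial.monomial s (1 : ℤ)) ''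
    Set.range (fun i : Fin n => Finsupp.single (Sum.inl i : Fin n ⊕ Fin n) M))

theorem cauchy_mod (M : ℕ) :
    (Matrix.vandermonde (xv (n := n))).det * (Matrix.vandermonde (yv (n := n))).det *
        ∏ i : Fin n, ∏ j : Fin n, geo M (xv i * yv j) -
      (Matrix.of fun i j : Fin n => geo M (xv i * yv j)).det ∈ truncIdeal n M := by
  rw [← det_prodMat, mul_comm, ← Ideal.Quotient.eq_zero_iff_mem, map_sub, sub_eq_zero]
  set π := Ideal.Quotient.mk (truncIdeal n M)
  have h1 : ∀ i j : Fin n, π (1 - xv i * yv j) * π (geo M (xv i * yv j)) = 1 := by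
    intro i j
    rw [← map_mul]
    have : (1 - xv i * yv j) * geo M (xv i * yv j) = 1 - (xv i * yv j) ^ M := by
      rw [geo, Fin.sum_univ_eq_sum_range (fun m => (xv i * yv j : Poly n) ^ m), mul_neg_geom_sum]
    rw [this, map_sub, map_one, sub_eq_self, Ideal.Quotient.eq_zero_iff_mem, mul_pow]
    refine Ideal.mul_mem_right _ _ (Ideal.subset_span ⟨_, ⟨i, rfl⟩, ?_⟩)
    simp [xv, MvPolynomial.X_pow_eq_monomial]
  rw [← Matrix.det_mul_column, π.map_det, π.map_det]
  congr 1
  ext i j
  simp only [RingHom.mapMatrix_apply, Matrix.map_apply, Matrix.of_apply, map_mul, map_prod, prodMat]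
  rw [← mul_prod_erase univ (fun k => π (geo M (xv i * yv k))) (mem_univ j), mul_assoc, ← prod_mul_distrib]
  rw [prod_eq_one (fun k _ => by rw [mul_comm]; exact h1 i k), mul_one]

theorem coeff_trunc (M : ℕ) (E : Fin n ⊕ Fin n →₀ ℕ) (hE : ∀ i, E (Sum.inl i) < M) (p : Poly n)
    (hp : p ∈ truncIdeal n M) : p.coeff E = 0 := by
  by_contra H
  obtain ⟨s, ⟨i, rfl⟩, hle⟩ := MvPolynomial.mem_ideal_span_monomial_image.1 hp E (MvPolynomial.mem_support_iff.2 H)
  have := hle (Sum.inl i)
  rw [Finsupp.single_eq_same] at this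
  exact absurd (hE i) (not_lt.2 this)

theorem geo_eq (M : ℕ) (i j : Fin n) :
    geo M (xv i * yv j) = ∑ m : Fin M,
      MvPolynomial.monomial (Finsupp.single (Sum.inl i) m.val + Finsupp.single (Sum.inr j) m.val) (1 : ℤ) := by
  refine sum_congr rfl fun m _ => ?_
  rw [mul_pow, xv, yv, MvPolynomial.X_pow_eq_monomial, MvPolynomial.X_pow_eq_monomial, MvPolynomial.monomial_mul,
    one_mul]

theorem vandermonde_eq (z : Fin n → Fin n ⊕ Fin n) :
    (Matrix.vandermonde fun i => (MvPolynomial.X (z i) : Poly n)).det =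
      ∑ κ : Equiv.Perm (Fin n), MvPolynomial.monomial (∑ i, Finsupp.single (z i) (κ i).val) ((Equiv.Perm.sign κ : ℤ)) := by
  rw [← Matrix.det_transpose, Matrix.det_apply']
  refine sum_congr rfl fun κ _ => ?_
  simp only [Matrix.transpose_apply, Matrix.vandermonde, Matrix.of_apply, MvPolynomial.X_pow_eq_monomial]
  rw [← MvPolynomial.monomial_sum_one, ← map_intCast (MvPolynomial.C : ℤ →+* Poly n), MvPolynomial.C_mul_monomial,
    mul_one]
  simp

/-- Combinatorial form of the Cauchy determinant. -/
theorem margin_orthogonality (lam lam' : Fin n → ℕ) (h : StrictMono lam) (h' : StrictMono lam') :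
    (∑ κ : Equiv.Perm (Fin n), ∑ κ' : Equiv.Perm (Fin n),
      if (∀ i, (κ i).val ≤ lam i) ∧ (∀ i, (κ' i).val ≤ lam' i) then
        ((Equiv.Perm.sign κ : ℤ) * (Equiv.Perm.sign κ' : ℤ) *
          Nat.card (Margin (fun i => lam i - (κ i).val) (fun i => lam' i - (κ' i).val)))
      else (0 : ℤ)) = if lam = lam' then 1 else 0 := by
  classical
  set M := (∑ i, lam i) + (∑ i, lam' i) + 1 with hMdef
  have hM : ∀ i, lam i < M := fun i => by
    have := single_le_sum (fun j _ => Nat.zero_le (lam j)) (mem_univ i); omega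
  have hM' : ∀ i, lam' i < M := fun i => by
    have := single_le_sum (fun j _ => Nat.zero_le (lam' j)) (mem_univ i); omega
  let E : Fin n ⊕ Fin n →₀ ℕ := Finsupp.equivFunOnFinite.symm (Sum.elim lam lam')
  have hEl : ∀ i, E (Sum.inl i) = lam i := fun i => rfl
  have hEr : ∀ i, E (Sum.inr i) = lam' i := fun i => rfl
  have key := coeff_trunc M E (fun i => by rw [hEl]; exact hM i) _ (cauchy_mod (n := n) M)
  rw [MvPolynomial.coeff_sub, sub_eq_zero] at key
  -- the determinant side
  have hR : ((Matrix.of fun i j : Fin n => geo M (xv i * yv j)).det).coeff E = if lam = lam' then 1 else 0 := by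
    rw [Matrix.det_apply', MvPolynomial.coeff_sum]
    simp only [Matrix.of_apply, geo_eq, Fintype.prod_sum, ← MvPolynomial.monomial_sum_one, mul_sum,
      MvPolynomial.coeff_sum, ← map_intCast (MvPolynomial.C : ℤ →+* Poly n), MvPolynomial.C_mul_monomial,
      MvPolynomial.coeff_monomial, mul_one, Int.cast_id]
    have hcond : ∀ (σ : Equiv.Perm (Fin n)) (m : Fin n → Fin M),
        (∑ i, (Finsupp.single (Sum.inl (σ i)) (m i).val + Finsupp.single (Sum.inr i) (m i).val) = E) ↔
          (∀ i, (m i).val = lam' i) ∧ (∀ i, lam (σ i) = lam' i) := by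
      intro σ m
      rw [Finsupp.ext_iff, Sum.forall]
      simp only [Finsupp.finsetSum_apply, Finsupp.add_apply, hEl, hEr, Finsupp.single_apply,
        Sum.inl.injEq, Sum.inr.injEq, reduceCtorEq, if_false, add_zero, zero_add]
      constructor
      · rintro ⟨a, b⟩
        have b' : ∀ i, (m i).val = lam' i := fun i => by simpa using b i
        refine ⟨b', fun i => ?_⟩
        have := a (σ i)
        simp [EmbeddingLike.apply_eq_iff_eq] at this
        rw [← this, b']
      · rintro ⟨b, a⟩
        refine ⟨fun j => ?_, fun i => by simpa using b i⟩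
        obtain ⟨i, rfl⟩ := σ.surjective j
        simp [EmbeddingLike.apply_eq_iff_eq, b, a]
    simp only [hcond]
    split_ifs with hll
    · subst hll
      rw [sum_eq_single (1 : Equiv.Perm (Fin n)), sum_eq_single (fun i => (⟨lam i, hM i⟩ : Fin M))]
      · simp
      · intro m _ hm
        rw [if_neg]
        rintro ⟨b, -⟩
        exact hm (funext fun i => Fin.ext (b i))
      · simp
      · intro σ _ hσ
        refine sum_eq_zero fun m _ => if_neg ?_
        rintro ⟨-, a⟩
        exact hσ (Equiv.ext fun i => h.injective (a i))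
      · simp
    · refine sum_eq_zero fun σ _ => sum_eq_zero fun m _ => if_neg ?_
      rintro ⟨-, a⟩
      apply hll
      have hσ : StrictMono σ := fun i j hij => h.lt_iff_lt.1 (by rw [a i, a j]; exact h' hij)
      funext i
      have : σ i = i := DFunLike.congr_fun (Subsingleton.elim
        (hσ.orderIsoOfSurjective σ σ.surjective) (OrderIso.refl (Fin n))) i
      rw [← a i, this]
  rw [hR] at key
  -- the product side
  rw [← key]
  have hL : (Matrix.vandermonde (xv (n := n))).det * (Matrix.vandermonde (yv (n := n))).det *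
      ∏ i : Fin n, ∏ j : Fin n, geo M (xv i * yv j) =
      ∑ κ : Equiv.Perm (Fin n), ∑ κ' : Equiv.Perm (Fin n), ∑ A : Fin n × Fin n → Fin M,
        MvPolynomial.monomial ((∑ i, Finsupp.single (Sum.inl i) (κ i).val) + (∑ i, Finsupp.single (Sum.inr i) (κ' i).val) +
          ∑ p : Fin n × Fin n, (Finsupp.single (Sum.inl p.1) (A p).val + Finsupp.single (Sum.inr p.2) (A p).val))
          ((Equiv.Perm.sign κ : ℤ) * (Equiv.Perm.sign κ' : ℤ)) := by
    rw [← Fintype.prod_prod_type']
    simp only [geo_eq, Fintype.prod_sum, ← MvPolynomial.monomial_sum_one]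
    rw [show (xv (n := n)) = fun i => MvPolynomial.X (Sum.inl i) from rfl,
      show (yv (n := n)) = fun i => MvPolynomial.X (Sum.inr i) from rfl, vandermonde_eq, vandermonde_eq,
      sum_mul_sum, sum_mul]
    refine sum_congr rfl fun κ _ => ?_
    rw [sum_mul]
    refine sum_congr rfl fun κ' _ => ?_
    rw [mul_sum]
    refine sum_congr rfl fun A _ => ?_
    rw [MvPolynomial.monomial_mul, MvPolynomial.monomial_mul, mul_one]
  rw [hL]
  simp only [MvPolynomial.coeff_sum, MvPolynomial.coeff_monomial]
  refine sum_congr rfl fun κ _ => sum_congr rfl fun κ' _ => ?_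
  rw [← Finset.sum_filter, sum_const]
  have hcond : ∀ A : Fin n × Fin n → Fin M,
      ((∑ i, Finsupp.single (Sum.inl i) (κ i).val) + (∑ i, Finsupp.single (Sum.inr i) (κ' i).val) +
          ∑ p : Fin n × Fin n, (Finsupp.single (Sum.inl p.1) (A p).val + Finsupp.single (Sum.inr p.2) (A p).val) = E) ↔
        (∀ a, (κ a).val + ∑ b, (A (a, b)).val = lam a) ∧ ∀ b, (κ' b).val + ∑ a, (A (a, b)).val = lam' b := by
    intro A
    rw [Finsupp.ext_iff, Sum.forall]
    simp only [Finsupp.add_apply, Finsupp.finsetSum_apply, hEl, hEr, Finsupp.single_apply,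
      Sum.inl.injEq, Sum.inr.injEq, reduceCtorEq, if_false, add_zero, zero_add, sum_const_zero,
      Fintype.sum_prod_type]
    refine and_congr (forall_congr' fun a => ?_) (forall_congr' fun b => ?_)
    · simp
    · simp
  split_ifs with hκ
  · rw [nsmul_eq_mul, mul_comm]
    congr 1
    norm_cast
    rw [← Fintype.card_subtype, ← Nat.card_eq_fintype_card]
    refine (Nat.card_congr ?_).symm
    refine
      { toFun := fun A => ⟨fun a b => (A.1 (a, b)).val,
          fun a => by have := ((hcond A.1).1 A.2).1 a; have := hκ.1 a; dsimp only; omega,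
          fun b => by have := ((hcond A.1).1 A.2).2 b; have := hκ.2 b; dsimp only; omega⟩
        invFun := fun B => ⟨fun p => ⟨B.1 p.1 p.2, by
            have := single_le_sum (fun j _ => Nat.zero_le (B.1 p.1 j)) (mem_univ p.2)
            have := B.2.1 p.1
            dsimp only at this
            have := hM p.1
            omega⟩, (hcond _).2 ⟨fun a => by have := B.2.1 a; have := hκ.1 a; dsimp only at *; omega,
              fun b => by have := B.2.2 b; have := hκ.2 b; dsimp only at *; omega⟩⟩
        left_inv := fun A => rfl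
        right_inv := fun B => rfl }
  · rw [filter_false_of_mem, card_empty, zero_smul]
    intro A _ hA
    obtain ⟨a, b⟩ := (hcond A).1 hA
    exact hκ ⟨fun i => by have := a i; omega, fun i => by have := b i; omega⟩

end Cfsg.Agent.FlagChar
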