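import Mathlib
import Cfsg.Agent.Lib.FlagChar.Block

/-!
Degrees of the alternating sums of flag characters.
-/

set_option autoImplicit false

open Finset Polynomial

namespace Cfsg.Agent.FlagChar

/-- The `q`-integer. -/
def qInt (q r : ℕ) : ℕ := ∑ l ∈ range r, q ^ l

/-- The `q`-factorial. -/
def qFact (q r : ℕ) : ℕ := ∏ j ∈ range r, qInt q (j + 1)

theorem qFact_pos {q : ℕ} (hq : 1 ≤ q) (r : ℕ) : 0 < qFact q r :=
  prod_pos fun j _ => lt_of_lt_of_le (Nat.pow_pos (n := 0) hq) (single_le_sum (fun _ _ => Nat.zero_le _) (mem_range.2 (Nat.succ_pos j)))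

theorem qInt_lt {q a b : ℕ} (hq : 1 ≤ q) (h : a < b) : qInt q a < qInt q b :=
  sum_lt_sum_of_subset (range_subset_range.2 h.le) (mem_range.2 h) (by simp) (Nat.pow_pos hq) (fun _ _ _ => Nat.zero_le _)

/-- Falling product polynomial. -/
noncomputable def fallPoly (q k : ℕ) : ℂ[X] := ∏ r ∈ range k, (X - C (qInt q r : ℂ))

theorem monic_fallPoly (q k : ℕ) : (fallPoly q k).Monic := monic_prod_of_monic _ _ fun _ _ => monic_X_sub_C _

theorem natDegree_fallPoly (q k : ℕ) : (fallPoly q k).natDegree = k := by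
  rw [fallPoly, natDegree_prod_of_monic _ _ fun _ _ => monic_X_sub_C _]
  simp only [natDegree_X_sub_C, sum_const, card_range, smul_eq_mul, mul_one]

theorem fallPoly_eval (q L k : ℕ) (hk : k ≤ L) :
    (qFact q (L - k) : ℂ) * (fallPoly q k).eval (qInt q L : ℂ) = (qFact q L : ℂ) * (q : ℂ) ^ (k.choose 2) := by
  induction k with
  | zero => simp [fallPoly]
  | succ k ih =>
    specialize ih (by omega)
    obtain ⟨d, hd⟩ : ∃ d, L = k + 1 + d := ⟨L - (k + 1), by omega⟩
    subst hd
    rw [show k + 1 + d - (k + 1) = d by omega]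
    rw [show k + 1 + d - k = d + 1 by omega, qFact, prod_range_succ, ← qFact] at ih
    have hsplit : qInt q (k + 1 + d) = qInt q k + q ^ k * qInt q (d + 1) := by
      rw [qInt, qInt, qInt, show k + 1 + d = k + (d + 1) by omega, sum_range_add, mul_sum]
      congr 1
      exact sum_congr rfl fun l _ => pow_add q k l
    have hchoose : (k + 1).choose 2 = k + k.choose 2 := by
      rw [Nat.choose_succ_succ, Nat.choose_one_right]
    rw [fallPoly, prod_range_succ, ← fallPoly, eval_mul, eval_sub, eval_X, eval_C, hchoose, pow_add]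
    have hs : (qInt q (k + 1 + d) : ℂ) - qInt q k = (q : ℂ) ^ k * qInt q (d + 1) := by
      rw [hsplit]; push_cast; ring
    rw [hs]
    push_cast at ih
    linear_combination (q : ℂ) ^ k * ih

theorem fallPoly_eval_zero (q L k : ℕ) (hk : L < k) : (fallPoly q k).eval (qInt q L : ℂ) = 0 := by
  rw [fallPoly, eval_prod]
  exact prod_eq_zero (mem_range.2 hk) (by simp)

theorem sum_choose_two (n : ℕ) : ∑ i : Fin n, (i.val).choose 2 = n * (n - 1) * (n - 2) / 6 := by
  rw [Fin.sum_univ_eq_sum_range (fun i => i.choose 2)]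
  have h : ∀ n, ∑ i ∈ range n, i.choose 2 = n.choose 3 := by
    intro n
    induction n with
    | zero => rfl
    | succ n ih => rw [sum_range_succ, ih, Nat.choose_succ_succ n 2, add_comm]
  rw [h, Nat.choose_eq_descFactorial_div_factorial]
  simp [Nat.descFactorial, Nat.factorial]
  congr 1
  ring

variable {n : ℕ} {F : Type*} [Field F] [Fintype F]

theorem sum_shift (ν : Fin n → ℕ) (hsum : ∑ i, ν i = n) (κ : Equiv.Perm (Fin n))
    (hκ : ∀ i, (κ i).val ≤ ν i + i.val) : ∑ i : Fin n, (ν i + i.val - (κ i).val) = n := by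
  have h : ∑ i : Fin n, (ν i + i.val - (κ i).val) + ∑ i : Fin n, (κ i).val = ∑ i : Fin n, (ν i + i.val) := by
    rw [← sum_add_distrib]
    exact sum_congr rfl fun i _ => Nat.sub_add_cancel (hκ i)
  rw [Equiv.sum_comp κ (fun i : Fin n => i.val), sum_add_distrib, hsum] at h
  omega

theorem fixedPointCharacter_one (H : Subgroup (GL (Fin n) F)) :
    fixedPointCharacter H 1 = (Nat.card (GL (Fin n) F ⧸ H) : ℂ) := by
  rw [fixedPointCharacter]
  congr 1
  exact Nat.card_congr (Equiv.subtypeUnivEquiv fun x => one_smul _ x)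

/-- The degree formula. -/
theorem degree_formula {q : ℕ} (hq : Fintype.card F = q) (ν : Fin n → ℕ) (hsum : ∑ i, ν i = n) :
    unipotentCharacterGL n F ν 1 * (q : ℂ) ^ (n * (n - 1) * (n - 2) / 6) *
        ∏ i : Fin n, (qFact q (ν i + i.val) : ℂ) =
      (qFact q n : ℂ) * ∏ i : Fin n, ∏ j ∈ univ.filter (fun j : Fin n => i < j),
          ((qInt q (ν j + j.val) : ℂ) - (qInt q (ν i + i.val) : ℂ)) := by
  classical
  subst hq
  set q := Fintype.card F
  set v : Fin n → ℂ := fun i => (qInt q (ν i + i.val) : ℂ)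
  have hdet : ∑ κ : Equiv.Perm (Fin n), ((Equiv.Perm.sign κ : ℤ) : ℂ) * ∏ i, (fallPoly q (κ i).val).eval (v i) =
      ∏ i : Fin n, ∏ j ∈ univ.filter (fun j : Fin n => i < j), (v j - v i) := by
    have h := Matrix.det_eval_matrixOfPolynomials_eq_det_vandermonde v (fun j => fallPoly q j.val)
      (fun j => natDegree_fallPoly q j.val) (fun j => monic_fallPoly q j.val)
    rw [Matrix.det_vandermonde, ← Matrix.det_transpose, Matrix.det_apply'] at h
    simp only [Matrix.transpose_apply, Matrix.of_apply] at h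
    rw [← h]
    refine prod_congr rfl fun i _ => prod_congr ?_ fun _ _ => rfl
    ext j; simp
  rw [← hdet, mul_sum, unipotentCharacterGL, sum_mul, sum_mul]
  refine sum_congr rfl fun κ _ => ?_
  split_ifs with hκ
  · have hμ := sum_shift ν hsum κ hκ
    rw [fixedPointCharacter_one]
    have hidx : (Nat.card (GL (Fin n) F ⧸ parabolicGL n F fun i => ν i + i.val - (κ i).val) : ℂ) *
        ∏ i : Fin n, (qFact q (ν i + i.val - (κ i).val) : ℂ) = (qFact q n : ℂ) := by
      exact_mod_cast index_mul (F := F) (fun i => ν i + i.val - (κ i).val) hμ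
    have hprod : (∏ i : Fin n, (qFact q (ν i + i.val - (κ i).val) : ℂ)) * ∏ i, (fallPoly q (κ i).val).eval (v i) =
        (∏ i : Fin n, (qFact q (ν i + i.val) : ℂ)) * (q : ℂ) ^ (n * (n - 1) * (n - 2) / 6) := by
      rw [← sum_choose_two n, ← Equiv.sum_comp κ (fun i : Fin n => i.val.choose 2), ← prod_pow_eq_pow_sum,
        ← prod_mul_distrib, ← prod_mul_distrib]
      exact prod_congr rfl fun i _ => fallPoly_eval q (ν i + i.val) (κ i).val (hκ i)
    rw [← hidx]
    linear_combination (-(((Equiv.Perm.sign κ : ℤ) : ℂ) *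
      (Nat.card (GL (Fin n) F ⧸ parabolicGL n F fun i => ν i + i.val - (κ i).val) : ℂ))) * hprod
  · push Not at hκ
    obtain ⟨i, hi⟩ := hκ
    rw [zero_mul, zero_mul, prod_eq_zero (mem_univ i) (fallPoly_eval_zero q (ν i + i.val) (κ i).val hi),
      mul_zero, mul_zero]

/-- The degree is a positive integer. -/
theorem degree_pos (ν : Fin n → ℕ) (hmono : Monotone ν) (hsum : ∑ i, ν i = n) :
    ∃ r : ℝ, 0 < r ∧ unipotentCharacterGL n F ν 1 = r := by
  set q := Fintype.card F
  have hq : 1 ≤ q := Fintype.card_pos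
  have h := degree_formula (F := F) rfl ν hsum
  set A : ℕ := q ^ (n * (n - 1) * (n - 2) / 6) * ∏ i : Fin n, qFact q (ν i + i.val) with hA
  set B : ℕ := qFact q n * ∏ i : Fin n, ∏ j ∈ univ.filter (fun j : Fin n => i < j),
    (qInt q (ν j + j.val) - qInt q (ν i + i.val)) with hB
  have hlt : ∀ i j : Fin n, i < j → qInt q (ν i + i.val) < qInt q (ν j + j.val) :=
    fun i j hij => qInt_lt hq (add_lt_add_of_le_of_lt (hmono hij.le) hij)
  have hA0 : 0 < A := Nat.mul_pos (Nat.pow_pos hq) (prod_pos fun i _ => qFact_pos hq _)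
  have hB0 : 0 < B := Nat.mul_pos (qFact_pos hq _) (prod_pos fun i _ => prod_pos fun j hj => by
    have := hlt i j (mem_filter.1 hj).2; omega)
  have hAB : unipotentCharacterGL n F ν 1 * (A : ℂ) = (B : ℂ) := by
    rw [hA, hB]
    push_cast
    rw [← mul_assoc, h]
    congr 1
    refine prod_congr rfl fun i _ => prod_congr rfl fun j hj => ?_
    rw [Nat.cast_sub (hlt i j (mem_filter.1 hj).2).le]
  refine ⟨(B : ℝ) / A, by positivity, ?_⟩
  push_cast
  rw [eq_div_iff (by exact_mod_cast hA0.ne'), hAB]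

end Cfsg.Agent.FlagChar
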