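import Mathlib
import Cfsg.Agent.Lib.FlagChar.Bruhat
import Cfsg.Agent.Lib.FlagChar.Cauchy
import Cfsg.Agent.Lib.FlagChar.Degree
import Cfsg.Agent.Lib.Char.Generalized
import Cfsg.Agent.Lib.CharInt.Basic

/-!
Orthonormality and irreducibility of the unipotent characters of `GL_n`.
-/

set_option autoImplicit false

open Finset
open scoped ComplexConjugate

namespace Cfsg.Agent.FlagChar

variable {n : ℕ} {F : Type*} [Field F] [Fintype F] [DecidableEq F]

theorem strictMono_shift (ν : Fin n → ℕ) (hmono : Monotone ν) : StrictMono fun i : Fin n => ν i + i.val :=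
  fun _ _ hij => add_lt_add_of_le_of_lt (hmono hij.le) hij

theorem conj_fixedPointCharacter (H : Subgroup (GL (Fin n) F)) (g : GL (Fin n) F) :
    conj (fixedPointCharacter H g) = fixedPointCharacter H g := map_natCast _ _

/-- Orthonormality. -/
theorem inner_unipotent (ν ν' : Fin n → ℕ) (hmono : Monotone ν) (hsum : ∑ i, ν i = n)
    (hmono' : Monotone ν') (hsum' : ∑ i, ν' i = n) :
    classInner (unipotentCharacterGL n F ν) (unipotentCharacterGL n F ν') = if ν = ν' then 1 else 0 := by
  classical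
  have h := margin_orthogonality (fun i => ν i + i.val) (fun i => ν' i + i.val)
    (strictMono_shift ν hmono) (strictMono_shift ν' hmono')
  have hiff : ((fun i => ν i + i.val) = fun i => ν' i + i.val) ↔ ν = ν' :=
    ⟨fun e => funext fun i => Nat.add_right_cancel (congrFun e i), fun e => e ▸ rfl⟩
  simp only [hiff] at h
  have hc := congrArg (fun z : ℤ => (z : ℂ)) h
  simp only [Int.cast_ite, Int.cast_one, Int.cast_zero, Int.cast_sum, Int.cast_mul, Int.cast_natCast] at hc
  rw [← hc, classInner, mul_sum]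
  simp only [unipotentCharacterGL, map_sum, sum_mul, mul_sum]
  rw [sum_comm]
  refine Eq.trans (sum_congr rfl fun _ _ => sum_comm) ?_
  rw [sum_comm]
  refine sum_congr rfl fun κ _ => ?_
  refine sum_congr rfl fun κ' _ => ?_
  by_cases hκ : ∀ i, (κ i).val ≤ ν i + i.val
  · by_cases hκ' : ∀ i, (κ' i).val ≤ ν' i + i.val
    · rw [if_pos ⟨hκ, hκ'⟩, ← card_orbits_GL (F := F) _ _ (sum_shift ν hsum κ hκ) (sum_shift ν' hsum' κ' hκ'),
        ← average_mul_eq, mul_sum, mul_sum]
      refine sum_congr rfl fun g _ => ?_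
      rw [if_pos hκ, if_pos hκ', map_mul, map_intCast, conj_fixedPointCharacter]
      ring
    · rw [if_neg (fun h => hκ' h.2)]
      exact sum_eq_zero fun g _ => by rw [if_neg hκ', map_zero, mul_zero, mul_zero]
  · rw [if_neg (fun h => hκ h.1)]
    exact sum_eq_zero fun g _ => by rw [if_neg hκ, zero_mul, mul_zero]

theorem isGeneralized_unipotent (ν : Fin n → ℕ) :
    IsGeneralizedCharacter (GL (Fin n) F) (unipotentCharacterGL n F ν) := by
  classical
  have : unipotentCharacterGL n F ν = ∑ κ : Equiv.Perm (Fin n), fun g =>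
      if ∀ i : Fin n, (κ i).val ≤ ν i + i.val then
        ((Equiv.Perm.sign κ : ℤ) : ℂ) * fixedPointCharacter (parabolicGL n F fun i => ν i + i.val - (κ i).val) g
      else 0 := by
    funext g
    simp [unipotentCharacterGL, Finset.sum_apply]
  rw [this]
  refine Cfsg.Agent.Char.IsGeneralizedCharacter.sum _ fun κ _ => ?_
  by_cases hκ : ∀ i : Fin n, (κ i).val ≤ ν i + i.val
  · simp only [if_pos hκ]
    have h := Cfsg.Agent.Char.IsGeneralizedCharacter.intCast_smul
      (Cfsg.Agent.Char.IsCharacter.isGeneralized (Cfsg.Agent.Char.isCharacter_fixedBy (G := GL (Fin n) F)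
        (GL (Fin n) F ⧸ parabolicGL n F fun i => ν i + i.val - (κ i).val))) (Equiv.Perm.sign κ : ℤ)
    exact h
  · simp only [if_neg hκ]
    exact Cfsg.Agent.Char.IsGeneralizedCharacter.zero

/-- Irreducibility. -/
theorem isIrr_unipotent (ν : Fin n → ℕ) (hmono : Monotone ν) (hsum : ∑ i, ν i = n) :
    IsIrrCharacter (GL (Fin n) F) (unipotentCharacterGL n F ν) := by
  obtain ⟨ψ, hψ | hψ⟩ := Cfsg.Agent.Char.IsGeneralizedCharacter.irr_or_neg_of_norm_one
    (isGeneralized_unipotent (F := F) ν) (by rw [inner_unipotent ν ν hmono hsum hmono hsum, if_pos rfl])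
  · exact hψ ▸ ψ.2
  · exfalso
    obtain ⟨r, hr, h1⟩ := degree_pos (F := F) ν hmono hsum
    obtain ⟨d, ρ, -, hρ⟩ := ψ.2
    have hd : ψ.1 1 = (d : ℂ) := by
      rw [← hρ, Representation.char_one]
      simp
    rw [hψ, Pi.neg_apply, hd] at h1
    have h2 := congrArg Complex.re h1
    simp at h2
    have : (0 : ℝ) ≤ d := Nat.cast_nonneg d
    linarith

end Cfsg.Agent.FlagChar
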