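/-
The alternating sum `unipotentCharacterGL` of the partition `(1,…,1)` counts chains of invariant subspaces.
-/
import Cfsg.Agent.Lib.FlagChar.Block
import Cfsg.Agent.Lib.Semisimple.Mobius
import Mathlib.GroupTheory.Perm.Fin

set_option autoImplicit false

open Finset Matrix

namespace Cfsg.Agent.FlagChar.Steinberg

open Cfsg.Agent.Semisimple.Mobius (chains chainSum mu mem_chains)

variable {n : ℕ}

/-- The composition of a permutation. -/
def comp (κ : Equiv.Perm (Fin n)) (i : Fin n) : ℕ := i.val + 1 - (κ i).val

/-- The permutations which occur. -/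
def Valid (κ : Equiv.Perm (Fin n)) : Prop := ∀ i, (κ i).val ≤ i.val + 1

instance decidableValid (κ : Equiv.Perm (Fin n)) : Decidable (Valid κ) :=
  inferInstanceAs (Decidable (∀ i, (κ i).val ≤ i.val + 1))

/-- The cut points of the composition. -/
def cuts (κ : Equiv.Perm (Fin n)) : Finset ℕ := (univ.image (pref (comp κ))).erase 0

theorem pref_zero (μ : Fin (n + 1) → ℕ) : pref μ 0 = μ 0 := by
  rw [pref, show (univ.filter fun k : Fin (n + 1) => k ≤ 0) = {0} by ext; simp, sum_singleton]

theorem pref_succ (μ : Fin (n + 1) → ℕ) (a : Fin n) : pref μ a.succ = μ 0 + pref (fun i => μ i.succ) a := by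
  rw [pref, pref, sum_filter, sum_filter, Fin.sum_univ_succ, if_pos (Fin.zero_le _)]
  congr 1
  exact sum_congr rfl fun i _ => by simp only [Fin.succ_le_succ_iff]

/-- A valid permutation before the preimage of `0` moves every point up. -/
theorem eq_succ_of_lt {κ : Equiv.Perm (Fin (n + 1))} (hκ : Valid κ) :
    ∀ i : Fin (n + 1), i.val < (κ.symm 0).val → (κ i).val = i.val + 1 := by
  suffices h : ∀ (k : ℕ) (i : Fin (n + 1)), i.val = k → i.val < (κ.symm 0).val → (κ i).val = i.val + 1 from
    fun i => h _ i rfl
  intro k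
  induction k using Nat.strong_induction_on with
  | _ k ih =>
    intro i hk hi
    refine le_antisymm (hκ i) ?_
    by_contra hlt
    push Not at hlt
    have h0 : (κ i).val ≠ 0 := fun h => by
      rw [show i = κ.symm 0 by rw [← show κ i = 0 from Fin.ext (by simpa using h), Equiv.symm_apply_apply]] at hi
      exact lt_irrefl _ hi
    have hj : (κ i).val - 1 < n + 1 := by omega
    have h1 := ih ((κ i).val - 1) (by omega) ⟨(κ i).val - 1, hj⟩ rfl (by simp only; omega)
    have h2 : κ ⟨(κ i).val - 1, hj⟩ = κ i := Fin.ext (by rw [h1]; simp only; omega)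
    have := congrArg Fin.val (κ.injective h2)
    simp only at this
    omega

theorem sum_cuts : ∀ (n : ℕ) (φ : Finset ℕ → ℂ),
    ∑ κ : Equiv.Perm (Fin (n + 1)),
        (if Valid κ then ((Equiv.Perm.sign κ : ℤ) : ℂ) * φ (cuts κ) else 0) =
      ∑ S ∈ (Icc 1 n).powerset, (-1) ^ (n - S.card) * φ (insert (n + 1) S) := by
  classical
  intro n
  induction n with
  | zero =>
    intro φ
    haveI : Subsingleton (Equiv.Perm (Fin (0 + 1))) := inferInstanceAs (Subsingleton (Equiv.Perm (Fin 1)))
    rw [Fintype.sum_subsingleton _ 1, show (Icc 1 0 : Finset ℕ) = ∅ from rfl, powerset_empty, sum_singleton]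
    rw [if_pos (show Valid (1 : Equiv.Perm (Fin (0 + 1))) from fun i => by omega)]
    have : cuts (1 : Equiv.Perm (Fin (0 + 1))) = {1} := by decide
    rw [this]
    simp
  | succ n ih =>
    intro φ
    let up : Finset ℕ → Finset ℕ := fun s => s.image (· + 1)
    have hpart : ∀ p : Fin (n + 2), ∀ e : Equiv.Perm (Fin (n + 1)),
        Valid (Equiv.Perm.decomposeFin.symm (p, e)) ↔ p.val ≤ 1 ∧ Valid e := by
      intro p e
      constructor
      · intro h
        have h0 := h 0
        simp at h0
        refine ⟨h0, fun i => ?_⟩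
        have h1 := h i.succ
        rw [Equiv.Perm.decomposeFin_symm_apply_succ] at h1
        rcases eq_or_ne (e i).succ p with hep | hep
        · have := congrArg Fin.val hep
          simp at this
          omega
        · rw [Equiv.swap_apply_of_ne_of_ne (Fin.succ_ne_zero _) hep] at h1
          simp at h1
          omega
      · rintro ⟨hp, h⟩ i
        refine Fin.cases ?_ (fun i => ?_) i
        · simpa using hp
        · rw [Equiv.Perm.decomposeFin_symm_apply_succ]
          have := h i
          rcases eq_or_ne (e i).succ p with hep | hep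
          · rw [hep, Equiv.swap_apply_right]; simp
          · rw [Equiv.swap_apply_of_ne_of_ne (Fin.succ_ne_zero _) hep]; simp; omega
    have hcuts0 : ∀ e : Equiv.Perm (Fin (n + 1)),
        cuts (Equiv.Perm.decomposeFin.symm (0, e)) = insert 1 (up (cuts e)) := by
      intro e
      have hc : (fun i : Fin (n + 1) => comp (Equiv.Perm.decomposeFin.symm (0, e)) i.succ) = comp e := by
        funext i
        simp [comp]
      have hc0 : comp (Equiv.Perm.decomposeFin.symm ((0 : Fin (n + 2)), e)) 0 = 1 := by simp [comp]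
      ext k
      simp only [cuts, up, mem_erase, mem_image, mem_univ, true_and, mem_insert]
      constructor
      · rintro ⟨hk, a, rfl⟩
        refine Fin.cases (fun _ => Or.inl (by rw [pref_zero, hc0])) (fun b hb => ?_) a hk
        rw [pref_succ, hc, hc0] at hb ⊢
        by_cases h0 : pref (comp e) b = 0
        · exact Or.inl (by omega)
        · exact Or.inr ⟨_, ⟨h0, b, rfl⟩, by omega⟩
      · rintro (rfl | ⟨m, ⟨hm0, b, rfl⟩, rfl⟩)
        · exact ⟨one_ne_zero, 0, by rw [pref_zero, hc0]⟩
        · exact ⟨by omega, b.succ, by rw [pref_succ, hc, hc0]; omega⟩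
    have hcuts1 : ∀ e : Equiv.Perm (Fin (n + 1)), Valid e →
        cuts (Equiv.Perm.decomposeFin.symm (1, e)) = up (cuts e) := by
      intro e he
      let z := e.symm 0
      have hc0 : comp (Equiv.Perm.decomposeFin.symm ((1 : Fin (n + 2)), e)) 0 = 0 := by simp [comp]
      have hz : ∀ i, (e i).val = 0 ↔ i = z := fun i =>
        ⟨fun h => (Equiv.eq_symm_apply e).2 (Fin.ext h), fun h => h ▸ congrArg Fin.val (e.apply_symm_apply 0)⟩
      have hc : ∀ i : Fin (n + 1), comp (Equiv.Perm.decomposeFin.symm ((1 : Fin (n + 2)), e)) i.succ =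
          comp e i + (if i = z then 1 else 0) := by
        intro i
        simp only [comp, Equiv.Perm.decomposeFin_symm_apply_succ]
        split_ifs with h
        · rw [show (e i).succ = (1 : Fin (n + 2)) by rw [Fin.ext_iff]; simpa using (hz i).2 h,
            Equiv.swap_apply_right, (hz i).2 h]
          simp
        · rw [Equiv.swap_apply_of_ne_of_ne (Fin.succ_ne_zero _) fun h' => h ((hz i).1 (by have := congrArg Fin.val h'; simp only [Fin.val_succ, Fin.val_one] at this; omega))]
          simp
      have hpref : ∀ a : Fin (n + 1),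
          pref (fun i : Fin (n + 1) => comp (Equiv.Perm.decomposeFin.symm ((1 : Fin (n + 2)), e)) i.succ) a =
            pref (comp e) a + (if z ≤ a then 1 else 0) ∧ (pref (comp e) a = 0 ↔ ¬ z ≤ a) := by
        intro a
        refine ⟨?_, ?_⟩
        · rw [pref, sum_congr rfl fun i _ => hc i, sum_add_distrib, sum_ite_eq']
          simp [pref]
        · rw [pref, sum_eq_zero_iff]
          constructor
          · intro h hza
            have h1 := h z (by simpa using hza)
            rw [comp, (hz z).2 rfl] at h1
            omega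
          · intro hza i hi
            simp only [mem_filter, mem_univ, true_and] at hi
            have := eq_succ_of_lt he i (by
              rw [not_le] at hza
              exact lt_of_le_of_lt (Fin.le_def.1 hi) hza)
            rw [comp]; omega
      ext k
      simp only [cuts, up, mem_erase, mem_image, mem_univ, true_and]
      constructor
      · rintro ⟨hk, a, rfl⟩
        refine Fin.cases (fun h => absurd (by rw [pref_zero, hc0]) h) (fun b h => ?_) a hk
        rw [pref_succ, hc0, zero_add, (hpref b).1] at h ⊢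
        by_cases hb : z ≤ b
        · exact ⟨pref (comp e) b, ⟨fun h0 => (hpref b).2.1 h0 hb, b, rfl⟩, by rw [if_pos hb]⟩
        · rw [if_neg hb, (hpref b).2.2 hb] at h; exact absurd rfl h
      · rintro ⟨m, ⟨hm0, b, rfl⟩, rfl⟩
        refine ⟨by omega, b.succ, ?_⟩
        rw [pref_succ, hc0, zero_add, (hpref b).1,
          if_pos (not_not.1 fun h => hm0 ((hpref b).2.2 h))]
    rw [← Equiv.sum_comp Equiv.Perm.decomposeFin.symm, Fintype.sum_prod_type, Fin.sum_univ_succ, Fin.sum_univ_succ,
      Finset.sum_eq_zero (s := (univ : Finset (Fin n))) fun i _ => Finset.sum_eq_zero fun e _ => by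
        rw [if_neg]
        rw [hpart]
        rintro ⟨h, -⟩
        simp at h,
      add_zero]
    have hterm0 : ∀ e : Equiv.Perm (Fin (n + 1)),
        (if Valid (Equiv.Perm.decomposeFin.symm ((0 : Fin (n + 2)), e)) then
          ((Equiv.Perm.sign (Equiv.Perm.decomposeFin.symm ((0 : Fin (n + 2)), e)) : ℤ) : ℂ) *
            φ (cuts (Equiv.Perm.decomposeFin.symm (0, e))) else 0) =
          if Valid e then ((Equiv.Perm.sign e : ℤ) : ℂ) * (fun s => φ (insert 1 (up s))) (cuts e) else 0 := by
      intro e
      rw [Equiv.Perm.decomposeFin.symm_sign, hcuts0]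
      by_cases he : Valid e
      · rw [if_pos ((hpart _ _).2 ⟨by simp, he⟩), if_pos he]; simp
      · rw [if_neg fun h => he ((hpart _ _).1 h).2, if_neg he]
    have hterm1 : ∀ e : Equiv.Perm (Fin (n + 1)),
        (if Valid (Equiv.Perm.decomposeFin.symm ((Fin.succ 0 : Fin (n + 2)), e)) then
          ((Equiv.Perm.sign (Equiv.Perm.decomposeFin.symm ((Fin.succ 0 : Fin (n + 2)), e)) : ℤ) : ℂ) *
            φ (cuts (Equiv.Perm.decomposeFin.symm (Fin.succ 0, e))) else 0) =
          if Valid e then ((Equiv.Perm.sign e : ℤ) : ℂ) * (fun s => -φ (up s)) (cuts e) else 0 := by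
      intro e
      rw [Fin.succ_zero_eq_one]
      by_cases he : Valid e
      · rw [if_pos ((hpart _ _).2 ⟨by simp, he⟩), if_pos he, Equiv.Perm.decomposeFin.symm_sign, hcuts1 e he]
        simp
      · rw [if_neg fun h => he ((hpart _ _).1 h).2, if_neg he]
    rw [Finset.sum_congr rfl fun e _ => hterm0 e, Finset.sum_congr rfl fun e _ => hterm1 e,
      ih (fun s => φ (insert 1 (up s))), ih (fun s => -φ (up s))]
    have hIcc : Icc 1 (n + 1) = insert 1 ((Icc 1 n).image (· + 1)) := by
      ext k
      simp only [mem_Icc, mem_insert, mem_image]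
      constructor
      · intro h
        by_cases h1 : k = 1
        · exact Or.inl h1
        · exact Or.inr ⟨k - 1, by omega, by omega⟩
      · rintro (rfl | ⟨a, ha, rfl⟩) <;> omega
    have h1 : 1 ∉ (Icc 1 n).image (· + 1) := by simp
    rw [hIcc, sum_powerset_insert h1, powerset_image,
      sum_image fun a _ b _ h => image_injective (add_left_injective 1) h,
      sum_image fun a _ b _ h => image_injective (add_left_injective 1) h, add_comm]
    congr 1
    · refine sum_congr rfl fun S hS => ?_
      have hle : S.card ≤ n := (card_le_card (mem_powerset.1 hS)).trans (by simp)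
      rw [card_image_of_injective _ (add_left_injective 1), show n + 1 - S.card = n - S.card + 1 by omega, pow_succ]
      simp [up, image_insert]
    · refine sum_congr rfl fun S hS => ?_
      have hS1 : 1 ∉ S.image (· + 1) := fun h => h1 (image_subset_image (mem_powerset.1 hS) h)
      rw [card_insert_of_notMem hS1, card_image_of_injective _ (add_left_injective 1), Nat.add_sub_add_right,
        Finset.insert_comm]
      simp [up, image_insert]

/-! ### Flags -/

variable {F : Type*} [Field F]

/-- The span of the first `k` coordinate vectors. -/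
def stdSub (F : Type*) [Field F] (n k : ℕ) : Submodule F (Fin n → F) where
  carrier := {v | ∀ i : Fin n, k ≤ i.val → v i = 0}
  add_mem' {a b} ha hb i hi := by simp [ha i hi, hb i hi]
  zero_mem' i hi := rfl
  smul_mem' c a ha i hi := by simp [ha i hi]

theorem finrank_stdSub {n k : ℕ} (hk : k ≤ n) : Module.finrank F (stdSub F n k) = k := by
  let e : stdSub F n k ≃ₗ[F] (Fin k → F) :=
    { toFun := fun v i => v.1 ⟨i.val, i.isLt.trans_le hk⟩
      map_add' := fun a b => rfl
      map_smul' := fun c a => rfl
      invFun := fun w => ⟨fun i => if h : i.val < k then w ⟨i.val, h⟩ else 0, fun i hi => dif_neg (by omega)⟩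
      left_inv := fun v => by
        ext i
        by_cases h : i.val < k
        · simp [h]
        · simp [h, v.2 i (by omega)]
      right_inv := fun w => by ext i; simp }
  rw [e.finrank_eq, Module.finrank_fin_fun]

theorem stdSub_le {k l : ℕ} (h : k ≤ l) : stdSub F n k ≤ stdSub F n l := fun _ hv i hi => hv i (h.trans hi)

/-- Every chain of subspaces is the image of a standard one. -/
theorem exists_adapted [FiniteDimensional F (Fin n → F)] {V : Type*} [AddCommGroup V] [Module F V]
    [FiniteDimensional F V] :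
    ∀ (c : Finset (Submodule F V)) (W : Submodule F V), (∀ U ∈ c, U ≤ W) →
      (∀ U ∈ c, ∀ U' ∈ c, U ≤ U' ∨ U' ≤ U) → Module.finrank F W = n →
      ∃ φ : (Fin n → F) →ₗ[F] V, Function.Injective φ ∧ LinearMap.range φ = W ∧
        ∀ U ∈ c, (stdSub F n (Module.finrank F U)).map φ = U := by
  classical
  intro c
  induction c using Finset.strongInduction generalizing n with
  | _ c ih =>
    intro W hle hch hW
    rcases c.eq_empty_or_nonempty with rfl | hne
    · let e : (Fin n → F) ≃ₗ[F] W := LinearEquiv.ofFinrankEq _ _ (by rw [Module.finrank_fin_fun, hW])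
      refine ⟨W.subtype ∘ₗ e.toLinearMap, Subtype.val_injective.comp e.injective, ?_, by simp⟩
      rw [LinearMap.range_comp, LinearEquiv.range, Submodule.map_top, Submodule.range_subtype]
    · obtain ⟨U, hU, hmax⟩ := Finset.exists_max_image c (fun U : Submodule F V => Module.finrank F U) hne
      have hbelow : ∀ U' ∈ c.erase U, U' ≤ U := fun U' hU' => by
        rcases hch U' (Finset.mem_of_mem_erase hU') U hU with h | h
        · exact h
        · exact (Submodule.eq_of_le_of_finrank_le h (hmax U' (Finset.mem_of_mem_erase hU'))).symm.le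
      set d := Module.finrank F U with hd
      obtain ⟨φ, hφi, hφr, hφ⟩ := ih (n := d) (c.erase U) (Finset.erase_ssubset hU) U hbelow
        (fun a ha b hb => hch a (Finset.mem_of_mem_erase ha) b (Finset.mem_of_mem_erase hb)) rfl
      have hdn : d ≤ n := hW ▸ Submodule.finrank_mono (hle U hU)
      obtain ⟨C, hC⟩ := Submodule.exists_isCompl (Submodule.comap W.subtype U)
      let P := C.map W.subtype
      have hdisj : Disjoint U P := by
        rw [Submodule.disjoint_def]
        rintro x hx ⟨y, hy, rfl⟩
        simp [Submodule.disjoint_def.1 hC.disjoint y hx hy]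
      have hsup : U ⊔ P = W := by
        refine le_antisymm (sup_le (hle U hU) (Submodule.map_subtype_le _ _)) fun x hx => ?_
        obtain ⟨a, ha, b, hb, hab⟩ := Submodule.mem_sup.1 (hC.sup_eq_top ▸ Submodule.mem_top (x := (⟨x, hx⟩ : W)))
        exact Submodule.mem_sup.2 ⟨a.1, ha, b.1, ⟨b, hb, rfl⟩, congrArg Subtype.val hab⟩
      have hP : Module.finrank F P = n - d := by
        have := Submodule.finrank_sup_add_finrank_inf_eq U P
        rw [hdisj.eq_bot, finrank_bot, hsup, hW] at this
        omega
      let eP : (Fin (n - d) → F) ≃ₗ[F] P := LinearEquiv.ofFinrankEq _ _ (by rw [Module.finrank_fin_fun, hP])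
      let ψ : (Fin n → F) →ₗ[F] V :=
        φ ∘ₗ LinearMap.funLeft F F (fun i : Fin d => (⟨i.val, i.isLt.trans_le hdn⟩ : Fin n)) +
          P.subtype ∘ₗ eP.toLinearMap ∘ₗ
            LinearMap.funLeft F F (fun i : Fin (n - d) => (⟨d + i.val, by omega⟩ : Fin n))
      have hψi : Function.Injective ψ := by
        rw [injective_iff_map_eq_zero]
        intro v hv
        simp only [ψ, LinearMap.add_apply, LinearMap.comp_apply] at hv
        have h1 : φ (LinearMap.funLeft F F (fun i : Fin d => (⟨i.val, i.isLt.trans_le hdn⟩ : Fin n)) v) = 0 := by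
          refine Submodule.disjoint_def.1 hdisj _ (hφr ▸ LinearMap.mem_range_self φ _) ?_
          rw [eq_neg_of_add_eq_zero_left hv]
          exact P.neg_mem (Subtype.prop _)
        rw [h1, zero_add] at hv
        have h2 := congrFun ((injective_iff_map_eq_zero φ).1 hφi _ h1)
        have h3 := congrFun ((injective_iff_map_eq_zero eP).1 eP.injective _ (Subtype.ext hv))
        funext i
        by_cases hi : i.val < d
        · exact h2 ⟨i.val, hi⟩
        · have := h3 ⟨i.val - d, by omega⟩
          simp only [LinearMap.funLeft_apply, Pi.zero_apply] at this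
          rwa [show (⟨d + (i.val - d), by omega⟩ : Fin n) = i from Fin.ext (by simp only; omega)] at this
      have hψr : LinearMap.range ψ = W := by
        refine Submodule.eq_of_le_of_finrank_le ?_ ?_
        · rintro _ ⟨v, rfl⟩
          rw [← hsup]
          exact Submodule.add_mem_sup (hφr ▸ LinearMap.mem_range_self φ _) (Subtype.prop _)
        · rw [LinearMap.finrank_range_of_inj hψi, Module.finrank_fin_fun, hW]
      refine ⟨ψ, hψi, hψr, fun U' hU' => ?_⟩
      have hd' : Module.finrank F U' ≤ d := hmax U' hU'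
      have hrest : ∀ v ∈ stdSub F n (Module.finrank F U'),
          ψ v = φ (LinearMap.funLeft F F (fun i : Fin d => (⟨i.val, i.isLt.trans_le hdn⟩ : Fin n)) v) := by
        intro v hv
        have h0 : LinearMap.funLeft F F (fun i : Fin (n - d) => (⟨d + i.val, by omega⟩ : Fin n)) v = 0 := by
          funext i
          exact hv _ (by simp only; omega)
        show φ _ + _ = _
        simp [h0]
      refine Submodule.eq_of_le_of_finrank_le ?_ ?_
      · rintro _ ⟨v, hv, rfl⟩
        rw [hrest v hv]
        rcases eq_or_ne U' U with rfl | hne'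
        · exact hφr ▸ LinearMap.mem_range_self φ _
        · exact (hφ U' (Finset.mem_erase.2 ⟨hne', hU'⟩)).le ⟨_, fun i hi => hv _ hi, rfl⟩
      · rw [← (Submodule.equivMapOfInjective ψ hψi (stdSub F n (Module.finrank F U'))).finrank_eq,
          finrank_stdSub (hd'.trans hdn)]

variable [Fintype F] [DecidableEq F]

omit [DecidableEq F] in
open Classical in
/-- The fixed cosets of a parabolic are the chains of invariant subspaces of the given dimensions. -/
theorem card_fixed {μ : Fin n → ℕ} {S : Finset ℕ} (hS : ∀ k ∈ S, 1 ≤ k ∧ k < n)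
    (hμ : ∀ k, (∃ a, pref μ a = k) ∧ 0 < k ∧ k < n ↔ k ∈ S) (x : GL (Fin n) F) :
    Nat.card (MulAction.fixedBy (GL (Fin n) F ⧸ parabolicGL n F μ) x) =
      ((chains (Matrix.toLin' (x : Matrix (Fin n) (Fin n) F)) ⊤).filter
        fun c => c.image (fun U : Submodule F (Fin n → F) => Module.finrank F U) = S).card := by
  classical
  let L : GL (Fin n) F → ((Fin n → F) →ₗ[F] (Fin n → F)) := fun g => Matrix.toLin' (g : Matrix (Fin n) (Fin n) F)
  have hLmul : ∀ g h, L (g * h) = L g ∘ₗ L h := fun g h => by simp only [L, Units.val_mul, Matrix.toLin'_mul]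
  have hL1 : L 1 = LinearMap.id := by simp only [L, Units.val_one, Matrix.toLin'_one]
  have hLinj : ∀ g, Function.Injective (L g) := fun g v w h => by
    have := congrArg (L g⁻¹) h
    rwa [← LinearMap.comp_apply, ← LinearMap.comp_apply, ← hLmul, inv_mul_cancel, hL1] at this
  have hmem : ∀ g, g ∈ parabolicGL n F μ ↔ ∀ k ∈ S, ∀ v ∈ stdSub F n k, L g v ∈ stdSub F n k := by
    intro g
    constructor
    · intro hg k hk v hv i hi
      show ((g : Matrix (Fin n) (Fin n) F) *ᵥ v) i = 0
      rw [Matrix.mulVec, dotProduct]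
      refine Finset.sum_eq_zero fun j _ => ?_
      by_cases hj : k ≤ j.val
      · rw [hv j hj, mul_zero]
      · obtain ⟨⟨a, ha⟩, -⟩ := (hμ k).2 hk
        have h1 := (compLabel_le_iff μ j a).2 (by omega)
        have h2 : ¬ compLabel μ i ≤ a.val := fun h => by have := (compLabel_le_iff μ i a).1 h; omega
        rw [hg (show compLabel μ j < compLabel μ i by omega), zero_mul]
    · intro hg i j (hij : compLabel μ j < compLabel μ i)
      obtain ⟨a, ha1, ha2⟩ : ∃ a : Fin n, j.val < pref μ a ∧ pref μ a ≤ i.val := by
        by_contra! hno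
        refine absurd hij (not_lt.2 ?_)
        refine Finset.card_le_card fun a ha => ?_
        simp only [mem_filter, mem_univ, true_and] at ha ⊢
        by_contra hc
        push Not at hc
        exact absurd (hno a hc) (not_lt.2 ha)
      have hk := (hμ (pref μ a)).1 ⟨⟨a, rfl⟩, by omega, by omega⟩
      have h1 := hg _ hk (Pi.single j 1) (fun l hl => by
        rw [Pi.single_apply, if_neg]; rintro rfl; omega) i ha2
      simpa [L] using h1
  have hfix : ∀ g : GL (Fin n) F, x • (g : GL (Fin n) F ⧸ parabolicGL n F μ) = g ↔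
      ∀ k ∈ S, Semisimple.Mobius.Inv (Matrix.toLin' (x : Matrix (Fin n) (Fin n) F)) ((stdSub F n k).map (L g)) := by
    intro g
    rw [MulAction.Quotient.smul_coe, eq_comm, QuotientGroup.eq, hmem, smul_eq_mul]
    refine forall_congr' fun k => forall_congr' fun _ => ⟨fun h => ?_, fun h v hv => ?_⟩
    · rintro _ ⟨v, hv, rfl⟩
      refine ⟨_, h v hv, ?_⟩
      show L g (L (g⁻¹ * (x * g)) v) = L x (L g v)
      rw [← LinearMap.comp_apply, ← LinearMap.comp_apply, ← hLmul, ← hLmul, mul_inv_cancel_left]
    · obtain ⟨w, hw, hw'⟩ := h (L g v) ⟨v, hv, rfl⟩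
      have : L (g⁻¹ * (x * g)) v = w := hLinj g (by
        rw [← LinearMap.comp_apply, ← hLmul, mul_inv_cancel_left, hLmul, LinearMap.comp_apply]
        exact hw'.symm)
      rwa [this]
  let img : GL (Fin n) F → Finset (Submodule F (Fin n → F)) := fun g => S.image fun k => (stdSub F n k).map (L g)
  have hrank : ∀ g, ∀ k ∈ S, Module.finrank F ((stdSub F n k).map (L g)) = k := fun g k hk => by
    rw [← (Submodule.equivMapOfInjective (L g) (hLinj g) _).finrank_eq, finrank_stdSub (hS k hk).2.le]
  have himg : ∀ g : GL (Fin n) F, x • (g : GL (Fin n) F ⧸ parabolicGL n F μ) = g →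
      img g ∈ (chains (Matrix.toLin' (x : Matrix (Fin n) (Fin n) F)) ⊤).filter
        fun c => c.image (fun U : Submodule F (Fin n → F) => Module.finrank F U) = S := by
    intro g hg
    refine mem_filter.2 ⟨mem_chains.2 ⟨fun U hU => ?_, fun U hU U' hU' => ?_⟩, ?_⟩
    · obtain ⟨k, hk, rfl⟩ := mem_image.1 hU
      refine ⟨(hfix g).1 hg k hk, fun e => ?_, lt_top_iff_ne_top.2 fun e => ?_⟩
      · have h1 := hrank g k hk
        rw [e, finrank_bot] at h1
        have := hS k hk; omega
      · have h1 := hrank g k hk
        rw [e, finrank_top, Module.finrank_fin_fun] at h1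
        have := hS k hk; omega
    · obtain ⟨k, hk, rfl⟩ := mem_image.1 hU
      obtain ⟨k', hk', rfl⟩ := mem_image.1 hU'
      rcases le_total k k' with h | h
      · exact Or.inl (Submodule.map_mono (stdSub_le h))
      · exact Or.inr (Submodule.map_mono (stdSub_le h))
    · rw [image_image]
      exact (image_congr fun k hk => hrank g k hk).trans image_id
  rw [← Nat.card_eq_finsetCard]
  refine Nat.card_congr (Equiv.ofBijective (fun y => ⟨img y.1.out, himg _ (by
    rw [QuotientGroup.out_eq']; exact y.2)⟩) ⟨?_, ?_⟩)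
  · intro y y' h
    apply Subtype.ext
    rw [← QuotientGroup.out_eq' y.1, ← QuotientGroup.out_eq' y'.1, QuotientGroup.eq, hmem]
    intro k hk v hv
    have h1 : (stdSub F n k).map (L y'.1.out) ∈ img y.1.out := by
      rw [show img y.1.out = img y'.1.out from congrArg Subtype.val h]
      exact mem_image_of_mem _ hk
    obtain ⟨k', hk', e⟩ := mem_image.1 h1
    have : k' = k := by rw [← hrank y.1.out k' hk', e, hrank y'.1.out k hk]
    subst this
    obtain ⟨w, hw, hw'⟩ : L y'.1.out v ∈ (stdSub F n k').map (L y.1.out) := e ▸ ⟨v, hv, rfl⟩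
    rw [hLmul, LinearMap.comp_apply, ← hw', ← LinearMap.comp_apply, ← hLmul, inv_mul_cancel, hL1]
    exact hw
  · rintro ⟨c, hc⟩
    obtain ⟨hc, hdim⟩ := mem_filter.1 hc
    obtain ⟨hc1, hc2⟩ := mem_chains.1 hc
    obtain ⟨φ, hφi, -, hφ⟩ := exists_adapted (n := n) c ⊤ (fun U _ => le_top) hc2
      (by rw [finrank_top, Module.finrank_fin_fun])
    let g : GL (Fin n) F := Matrix.GeneralLinearGroup.mkOfDetNeZero (LinearMap.toMatrix' φ) (by
      rw [LinearMap.det_toMatrix']
      exact ((LinearMap.isUnit_iff_isUnit_det _).1 ((Module.End.isUnit_iff φ).2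
        ⟨hφi, LinearMap.injective_iff_surjective.1 hφi⟩)).ne_zero)
    have hg : L g = φ := Matrix.toLin'_toMatrix' φ
    have hmap : ∀ k ∈ S, (stdSub F n k).map (L g) ∈ c := by
      intro k hk
      rw [← hdim] at hk
      obtain ⟨U, hU, rfl⟩ := mem_image.1 hk
      rw [hg, hφ U hU]
      exact hU
    have himgc : img g = c := by
      refine Finset.Subset.antisymm (fun U hU => ?_) fun U hU => ?_
      · obtain ⟨k, hk, rfl⟩ := mem_image.1 hU; exact hmap k hk
      · exact mem_image.2 ⟨_, hdim ▸ mem_image_of_mem _ hU, by rw [hg, hφ U hU]⟩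
    have hfg : x • (g : GL (Fin n) F ⧸ parabolicGL n F μ) = g := (hfix g).2 fun k hk => (hc1 _ (hmap k hk)).1
    refine ⟨⟨_, hfg⟩, Subtype.ext (Eq.trans ?_ himgc)⟩
    refine Finset.image_congr fun k hk => ?_
    set g' := ((g : GL (Fin n) F ⧸ parabolicGL n F μ)).out
    have hp : g⁻¹ * g' ∈ parabolicGL n F μ := QuotientGroup.eq.1 (QuotientGroup.out_eq' _).symm
    refine Submodule.eq_of_le_of_finrank_le ?_ (by rw [hrank g k hk, hrank g' k hk])
    rintro _ ⟨v, hv, rfl⟩
    refine ⟨_, (hmem _).1 hp k hk v hv, ?_⟩
    rw [← LinearMap.comp_apply, ← hLmul, mul_inv_cancel_left]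

open Classical in
/-- The character is the Möbius function of the invariant subspaces. -/
theorem value_eq (m : ℕ) (x : GL (Fin (m + 1)) F) :
    unipotentCharacterGL (m + 1) F (fun _ => 1) x =
      (-1) ^ (m + 1) * (mu (Matrix.toLin' (x : Matrix (Fin (m + 1)) (Fin (m + 1)) F)) ⊤ : ℂ) := by
  classical
  set f := Matrix.toLin' (x : Matrix (Fin (m + 1)) (Fin (m + 1)) F)
  let φ : Finset ℕ → ℂ := fun P =>
    (((chains f ⊤).filter fun c => c.image (fun U : Submodule F (Fin (m + 1) → F) => Module.finrank F U) = P.erase (m + 1)).card : ℂ)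
  have hterm : ∀ κ : Equiv.Perm (Fin (m + 1)), Valid κ →
      fixedPointCharacter (parabolicGL (m + 1) F fun i => 1 + i.val - (κ i).val) x = φ (cuts κ) := by
    intro κ hκ
    rw [show (fun i : Fin (m + 1) => 1 + i.val - (κ i).val) = comp κ from funext fun i => by rw [comp, add_comm 1]]
    have hsum : ∑ i, comp κ i = m + 1 := by
      have h : ∑ i, (comp κ i + (κ i).val) = ∑ i : Fin (m + 1), (i.val + 1) :=
        sum_congr rfl fun i _ => Nat.sub_add_cancel (hκ i)
      rw [sum_add_distrib, sum_add_distrib, Equiv.sum_comp κ (fun i : Fin (m + 1) => i.val), sum_const, card_univ,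
        Fintype.card_fin, smul_eq_mul, mul_one] at h
      omega
    simp only [φ, fixedPointCharacter]
    congr 1
    refine card_fixed (fun k hk => ?_) (fun k => ?_) x
    · obtain ⟨hk1, hk⟩ := mem_erase.1 hk
      obtain ⟨hk0, hk⟩ := mem_erase.1 hk
      obtain ⟨a, -, rfl⟩ := mem_image.1 hk
      have := pref_le (comp κ) hsum a
      omega
    · simp only [cuts, mem_erase, mem_image, mem_univ, true_and]
      constructor
      · rintro ⟨h, h0, hlt⟩; exact ⟨hlt.ne, h0.ne', h⟩
      · rintro ⟨hne, h0, a, rfl⟩
        have := pref_le (comp κ) hsum a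
        exact ⟨⟨a, rfl⟩, by omega, by omega⟩
  have hrange : ∀ c ∈ chains f ⊤, c.image (fun U : Submodule F (Fin (m + 1) → F) => Module.finrank F U) ∈ (Icc 1 m).powerset := by
    intro c hc
    refine mem_powerset.2 fun k hk => ?_
    obtain ⟨U, hU, rfl⟩ := mem_image.1 hk
    obtain ⟨-, h0, hlt⟩ := (mem_chains.1 hc).1 U hU
    have h1 := Submodule.finrank_lt_finrank_of_lt hlt
    rw [finrank_top, Module.finrank_fin_fun] at h1
    have h2 : Module.finrank F U ≠ 0 := fun e => h0 (Submodule.finrank_eq_zero.1 e)
    exact mem_Icc.2 ⟨by omega, by omega⟩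
  have hcard : ∀ c ∈ chains f ⊤, (c.image fun U : Submodule F (Fin (m + 1) → F) => Module.finrank F U).card = c.card := fun c hc =>
    card_image_of_injOn fun U hU U' hU' h => by
      rcases (mem_chains.1 hc).2 U hU U' hU' with h1 | h1
      · exact Submodule.eq_of_le_of_finrank_le h1 h.ge
      · exact (Submodule.eq_of_le_of_finrank_le h1 h.le).symm
  have hsum := sum_cuts m φ
  have hlhs : unipotentCharacterGL (m + 1) F (fun _ => 1) x =
      ∑ κ : Equiv.Perm (Fin (m + 1)), if Valid κ then ((Equiv.Perm.sign κ : ℤ) : ℂ) * φ (cuts κ) else 0 := by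
    refine sum_congr rfl fun κ _ => ?_
    by_cases hκ : Valid κ
    · rw [if_pos fun i => by have := hκ i; simp only; omega, if_pos hκ, hterm κ hκ]
    · rw [if_neg fun h => hκ fun i => by have := h i; simp only at this; omega, if_neg hκ]
  rw [hlhs, hsum, mu, if_neg top_ne_bot, chainSum, ← sum_fiberwise_of_maps_to hrange, pow_succ]
  push_cast
  rw [mul_neg_one, neg_mul, mul_neg, neg_neg, mul_sum]
  refine sum_congr rfl fun S hS => ?_
  have hnot : m + 1 ∉ S := fun h => by have := mem_Icc.1 (mem_powerset.1 hS h); omega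
  have hle : S.card ≤ m := (card_le_card (mem_powerset.1 hS)).trans (by simp)
  simp only [φ, erase_insert hnot]
  rw [sum_congr rfl (g := fun _ => (-1 : ℂ) ^ S.card) fun c hc => by
    rw [← hcard c (mem_filter.1 hc).1, (mem_filter.1 hc).2], sum_const, nsmul_eq_mul]
  rw [show (-1 : ℂ) ^ (m - S.card) = (-1) ^ m * (-1) ^ S.card by
    rw [← pow_add, show m + S.card = (m - S.card) + 2 * S.card by omega, pow_add, pow_mul, neg_one_sq, one_pow,
      mul_one]]
  ring

end Cfsg.Agent.FlagChar.Steinberg
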